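import Groth.Agent.CohTop.Descent.Base
import Groth.Agent.CohTop.Derived
import Groth.Agent.CohTop.Flasque

/-!
# The Godement complexes compute cohomology

`homology_cx_iso` : `H^q` of `cx (base F)` at `T` is `H^q(T, F|T)`.
-/

universe u

open CategoryTheory CategoryTheory.Limits Opposite TopologicalSpace

namespace Groth.Agent.CohTop.Descent.Compute

open Groth.Agent.CohTop.Descent.Fam Groth.Agent.CohTop.Descent.Base Groth.Agent.ModShf.AcyclicRes

variable {X : TopCat.{u}}

/-- Global sections. -/
noncomputable abbrev Γt (X : TopCat.{u}) : CohTop.Ab X ⥤ AddCommGrpCat.{u} :=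
  sheafToPresheaf _ _ ⋙ (evaluation _ _).obj (op ⊤)

instance : (Γt X).Additive where

noncomputable instance : PreservesFiniteLimits (Γt X) := comp_preservesFiniteLimits _ _

theorem goodClass_flasque : GoodClass (Γt X) (fun F => TopCat.Sheaf.IsFlasque F) where
  of_injective F hF := by
    have : Injective (C := CohTop.Ab X) F := hF
    exact Flasque.isFlasque_of_injective F
  coker S hS h₁ h₂ := by
    have : TopCat.Sheaf.IsFlasque S.X₁ := h₁
    have : TopCat.Sheaf.IsFlasque S.X₂ := h₂
    exact TopCat.Sheaf.IsFlasque.of_shortExact_of_isFlasque₁₂ hS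
  epi S hS h₁ := by
    have : TopCat.Sheaf.IsFlasque S.X₁ := h₁
    exact TopCat.Sheaf.IsFlasque.epi_of_shortExact (U := ⊤) hS

/-- Flasque resolutions compute cohomology. -/
theorem nonempty_homology_iso_H {F : CohTop.Ab X} (R : Res F)
    (hR : ∀ n, TopCat.Sheaf.IsFlasque (R.K.X n)) (n : ℕ) :
    Nonempty ((((Γt X).mapHomologicalComplex _).obj R.K).homology n ≅
      AddCommGrpCat.of (CohTop.H F n)) := by
  let J := injectiveResolution F
  have := quasiIso_map_desc (goodClass_flasque (X := X)) R hR J
  refine ⟨asIso (HomologicalComplex.homologyMap (((Γt X).mapHomologicalComplex _).map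
    (R.desc (𝟙 F) J)) n) ≪≫ ?_⟩
  refine ((Derived.preCx J).sc n).mapHomologyIso ((evaluation _ _).obj (op ⊤)) ≪≫
    ((evaluation _ _).obj (op ⊤)).mapIso (Derived.homologyIso J n) ≪≫ ?_
  exact (Basic.HEquivHUTop F n).symm.toAddCommGrpIso

variable {S : TopCat.{u}} (F : CohTop.Ab S) (T : Over S)

theorem GSCx_d (q : ℕ) : (GSCx (base F) T).d q (q + 1) = dGS (base F) q T :=
  CochainComplex.of_d (fun q => GS (base F) q T) (fun q => dGS (base F) q T) q

theorem exists_res : ∃ R : Res ((CohTop.pull T.hom).obj F), R.K = GSCx (base F) T := by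
  let e := (CochainComplex.fromSingle₀Equiv (GSCx (base F) T) ((CohTop.pull T.hom).obj F)).symm
    ⟨ι F T, by rw [GSCx_d]; exact ι_dGS F T⟩
  refine ⟨⟨GSCx (base F) T, e, (quasiIso_iff _).2 fun n => ?_⟩, rfl⟩
  cases n with
  | zero =>
    rw [CochainComplex.quasiIsoAt₀_iff, ShortComplex.quasiIso_iff_of_zeros] <;>
      try (first | rfl | simp)
    all_goals try rfl
    refine ⟨?_, ?_⟩
    · refine ShortComplex.exact_of_iso (ShortComplex.isoMk (Iso.refl _) (Iso.refl _) (Iso.refl _)
        ?_ ?_) (exact_ι F T)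
      · simp [e] <;> exact (Category.id_comp _).trans (Category.comp_id _).symm
      · simp [e, CochainComplex.of_d] <;> exact (Category.id_comp _).trans (Category.comp_id _).symm
    · have := mono_ι F T
      simp [e]
      exact this
  | succ n =>
    rw [quasiIsoAt_iff_exactAt e (n + 1) (CochainComplex.exactAt_succ_single_obj _ _),
      HomologicalComplex.exactAt_iff' _ n (n + 1) (n + 1 + 1) (CochainComplex.prev_nat_succ n)
        (CochainComplex.next ℕ (n + 1))]
    refine ShortComplex.exact_of_iso (ShortComplex.isoMk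
      (S₁ := ShortComplex.mk _ _ (dGS_comp (base F) n T)) (Iso.refl _) (Iso.refl _) (Iso.refl _)
      ?_ ?_) (exact_dGS T (base F) n)
    · simp [CochainComplex.of_d] <;> exact (Category.id_comp _).trans (Category.comp_id _).symm
    · simp [CochainComplex.of_d] <;> exact (Category.id_comp _).trans (Category.comp_id _).symm

/-- `H^q` of the Godement complex at `T` is `H^q(T, F|T)`. -/
theorem homology_cx_iso (q : ℕ) :
    Nonempty (((cx (base F)).obj (op T)).homology q ≅
      AddCommGrpCat.of (CohTop.H ((CohTop.pull T.hom).obj F) q)) := by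
  obtain ⟨R, hR⟩ := exists_res F T
  obtain ⟨e⟩ := nonempty_homology_iso_H R (fun n => by rw [hR]; exact isFlasque_GS (base F) n T) q
  refine ⟨(HomologicalComplex.homologyFunctor _ _ q).mapIso (HomologicalComplex.Hom.isoOfComponents
    (C₁ := (cx (base F)).obj (op T))
    (C₂ := ((Γt T.left).mapHomologicalComplex _).obj (GSCx (base F) T))
    (fun n => Iso.refl _) ?_ ≪≫ eqToIso (congrArg ((Γt T.left).mapHomologicalComplex _).obj hR.symm)) ≪≫ e⟩
  intro i j h
  obtain rfl : i + 1 = j := h
  simp [cx, CochainComplex.of_d]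
  exact (Category.id_comp _).trans (Category.comp_id _).symm

end Groth.Agent.CohTop.Descent.Compute
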