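import Groth.Agent.CohTop.Descent.TotMap
import Mathlib.AlgebraicTopology.AlternatingFaceMapComplex

/-!
# Alternating complexes and truncated total complexes

`altIso` : additive functors commute with alternating coface complexes; `totN` : the total complex in
natural degrees; `totN_homology_iso`.
-/

namespace Groth.Agent.CohTop.Descent.AltCx

open CategoryTheory CategoryTheory.Limits AlgebraicTopology Simplicial

universe v u v' u' w

variable {C : Type u} [Category.{v} C] [Abelian C]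

theorem alt_d (Y : CosimplicialObject C) (p : ℕ) :
    (AlternatingCofaceMapComplex.obj Y).d p (p + 1) = ∑ i : Fin (p + 2), (-1 : ℤ) ^ (i : ℕ) • Y.δ i :=
  CochainComplex.of_d (fun n => Y.obj ⦋n⦌) (AlternatingCofaceMapComplex.objD Y) p

variable {D : Type u'} [Category.{v'} D] [Abelian D] (G : C ⥤ D) [G.Additive]

/-- Additive functors commute with alternating coface complexes. -/
noncomputable def altIso (Y : CosimplicialObject C) :
    (G.mapHomologicalComplex (ComplexShape.up ℕ)).obj (AlternatingCofaceMapComplex.obj Y) ≅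
      AlternatingCofaceMapComplex.obj (Y ⋙ G) :=
  HomologicalComplex.Hom.isoOfComponents (fun _ => Iso.refl _) (by
    intro i j h
    obtain rfl : i + 1 = j := h
    refine (Category.id_comp _).trans (Eq.trans ?_ (Category.comp_id _).symm)
    rw [Functor.mapHomologicalComplex_obj_d, alt_d, alt_d]
    refine Eq.trans ?_ (G.map_sum _ _).symm
    exact Finset.sum_congr rfl fun k _ => (G.map_zsmul (f := Y.δ k)).symm)

theorem alt_d_apply (Y : CosimplicialObject (CochainComplex AddCommGrpCat.{w} ℕ)) (p q : ℕ)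
    (x : (Y.obj ⦋p⦌).X q) :
    ((AlternatingCofaceMapComplex.obj Y).d p (p + 1)).f q x =
      ∑ i : Fin (p + 2), (-1 : ℤ) ^ (i : ℕ) • (Y.δ i).f q x := by
  have h : ((AlternatingCofaceMapComplex.obj Y).d p (p + 1)).f q =
      ∑ i : Fin (p + 2), (-1 : ℤ) ^ (i : ℕ) • (Y.δ i).f q :=
    (congrArg (fun φ : Y.obj ⦋p⦌ ⟶ Y.obj ⦋p + 1⦌ => φ.f q) (alt_d Y p)).trans
      ((map_sum (HomologicalComplex.Hom.fAddMonoidHom
        (C₁ := Y.obj ⦋p⦌) (C₂ := Y.obj ⦋p + 1⦌) q) _ _).trans
        (Finset.sum_congr rfl fun i _ => map_zsmul (HomologicalComplex.Hom.fAddMonoidHom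
          (C₁ := Y.obj ⦋p⦌) (C₂ := Y.obj ⦋p + 1⦌) q) _ _))
  refine (congrArg (fun φ : (Y.obj ⦋p⦌).X q ⟶ (Y.obj ⦋p + 1⦌).X q => φ x) h).trans ?_
  exact map_sum (AddMonoidHom.mk' (fun g : (Y.obj ⦋p⦌).X q ⟶ (Y.obj ⦋p + 1⦌).X q => g x)
    (fun _ _ => rfl)) _ _

/-- Double complexes in an abelian category. -/
abbrev DC (C : Type u) [Category.{v} C] [Abelian C] : Type (max u v) :=
  CochainComplex (CochainComplex C ℕ) ℕ

variable (K : CochainComplex (CochainComplex C ℕ) ℕ)

/-- The total complex in natural degrees. -/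
noncomputable abbrev totN : CochainComplex C ℕ :=
  CochainComplex.of (fun k => TotCx.X K (k : ℤ))
    (fun k => TotCx.d (k : ℤ) ((k + 1 : ℕ) : ℤ) (by omega)) fun k => TotCx.d_comp_d _ _

theorem totN_d (k : ℕ) :
    (totN K).d k (k + 1) = TotCx.d (k : ℤ) ((k + 1 : ℕ) : ℤ) (by omega) :=
  CochainComplex.of_d (fun k : ℕ => TotCx.X K (k : ℤ))
    (fun k => TotCx.d (k : ℤ) ((k + 1 : ℕ) : ℤ) (by omega)) k

/-- Complexes supported in natural degrees. -/
theorem nonempty_homology_iso_of_nat (L : CochainComplex C ℤ) (hL : IsZero (L.X (-1)))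
    (L' : CochainComplex C ℕ) (e : ∀ k : ℕ, L'.X k ≅ L.X k)
    (he : ∀ k : ℕ, (e k).hom ≫ L.d (k : ℤ) ((k + 1 : ℕ) : ℤ) = L'.d k (k + 1) ≫ (e (k + 1)).hom)
    (k : ℕ) : Nonempty (L'.homology k ≅ L.homology k) := by
  rcases k with _ | k
  · refine ⟨(L'.isoSc' 0 0 1 (by simp) (by simp) |> ShortComplex.homologyMapIso) ≪≫ ?_ ≪≫
      (L.isoSc' (-1) 0 1 (by rw [CochainComplex.prev]; omega) (CochainComplex.next ℤ 0) |>
        ShortComplex.homologyMapIso).symm⟩
    let φ : L'.sc' 0 0 1 ⟶ L.sc' (-1) 0 1 :=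
      { τ₁ := 0
        τ₂ := (e 0).hom
        τ₃ := (e 1).hom
        comm₁₂ := by simp <;> exact zero_comp.symm
        comm₂₃ := he 0 }
    have : Epi φ.τ₁ := IsZero.epi hL _
    have : IsIso φ.τ₂ := inferInstanceAs (IsIso (e 0).hom)
    have : Mono φ.τ₃ := inferInstanceAs (Mono (e 1).hom)
    have := ShortComplex.quasiIso_of_epi_of_isIso_of_mono φ
    exact asIso (ShortComplex.homologyMap φ)
  · refine ⟨(L'.isoSc' k (k + 1) (k + 1 + 1) (CochainComplex.prev_nat_succ k) (by simp) |>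
      ShortComplex.homologyMapIso) ≪≫ ShortComplex.homologyMapIso ?_ ≪≫
      (L.isoSc' (k : ℤ) ((k + 1 : ℕ) : ℤ) ((k + 1 + 1 : ℕ) : ℤ)
        (by rw [CochainComplex.prev]; omega) (by rw [CochainComplex.next]; omega) |>
        ShortComplex.homologyMapIso).symm⟩
    exact ShortComplex.isoMk (e k) (e (k + 1)) (e (k + 1 + 1)) (he k) (he (k + 1))

theorem sum_π_ι (n : ℤ) [Fintype (TotCx.Idx n)] :
    ∑ j : TotCx.Idx n, TotCx.π K n j.1.1 j.1.2 j.2 ≫ TotCx.ι K n j.1.1 j.1.2 j.2 = 𝟙 _ := by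
  refine TotCx.hom_ext K fun p q h => ?_
  rw [Category.id_comp, Preadditive.sum_comp]
  rw [Finset.sum_eq_single (⟨(p, q), h⟩ : TotCx.Idx n)]
  · rw [Category.assoc, TotCx.ι_π, Category.comp_id]
  · rintro ⟨⟨p', q'⟩, h'⟩ - hne
    rw [Category.assoc, TotCx.ι_π_ne, comp_zero]
    intro e
    subst e
    exact hne (Subtype.ext (Prod.ext rfl (by simp only at h h' ⊢; omega)))
  · simp

/-- Natural maps which are epimorphisms on the components are epimorphisms on the terms. -/
theorem epi_app_X {G G' : C ⥤ D} [G'.Additive] (η : G ⟶ G') (n : ℤ)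
    (h : ∀ p q : ℕ, Epi (η.app ((K.X p).X q))) : Epi (η.app (TotCx.X K n)) := by
  have : Fintype (TotCx.Idx n) := Fintype.ofFinite _
  refine ⟨fun {Z} a b e => ?_⟩
  have hj : ∀ j : TotCx.Idx n, G'.map (TotCx.ι K n j.1.1 j.1.2 j.2) ≫ a =
      G'.map (TotCx.ι K n j.1.1 j.1.2 j.2) ≫ b := fun j => by
    have := h j.1.1 j.1.2
    rw [← cancel_epi (η.app ((K.X j.1.1).X j.1.2)), ← η.naturality_assoc, ← η.naturality_assoc, e]
  rw [← Category.id_comp a, ← Category.id_comp b, ← G'.map_id, ← sum_π_ι K n, G'.map_sum,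
    Preadditive.sum_comp, Preadditive.sum_comp]
  refine Finset.sum_congr rfl fun j _ => ?_
  rw [G'.map_comp, Category.assoc, Category.assoc, hj j]

theorem isZero_X_neg_one : IsZero (TotCx.X K (-1)) := by
  rw [IsZero.iff_id_eq_zero]
  exact TotCx.hom_ext K fun p q h => absurd h (by omega)

end Groth.Agent.CohTop.Descent.AltCx
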