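import Groth.Agent.CohTop.Descent.Fam
import Groth.Agent.CohTop.Restrict
import Groth.Agent.ModShf.AcyclicRes
import Mathlib.Topology.Sheaves.Skyscraper

/-!
# The family of pullbacks of a sheaf on the base

`base F` : locally germ families; `nonempty_homology_iso` : the complex `cx (base F)` at `T`
computes the cohomology of the pullback of `F` to `T`.
-/

universe u

open CategoryTheory CategoryTheory.Limits Opposite TopologicalSpace

namespace Groth.Agent.CohTop.Descent.Base

open Groth.Agent.CohAff Groth.Agent.CohTop.Descent.Fam StalkSkyscraperPresheafAdjunctionAuxs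

variable {S : TopCat.{u}} (F : CohTop.Ab S)

/-- The stalks of `F`. -/
noncomputable abbrev St (y : S) : AddCommGrpCat.{u} := TopCat.Presheaf.stalk F.obj y

/-- Transport of germs along an equality of points. -/
noncomputable def tr {y y' : S} (e : y = y') : (St F y : Type u) →+ (St F y' : Type u) :=
  e ▸ AddMonoidHom.id _

theorem tr_self {y : S} (e : y = y) (t : St F y) : tr F e t = t := rfl

theorem tr_tr {y y' y'' : S} (e : y = y') (e' : y' = y'') (t : St F y) :
    tr F e' (tr F e t) = tr F (e.trans e') t := by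
  subst e e'; rfl

theorem tr_germ {y y' : S} (e : y = y') (V : Opens S) (hy : y ∈ V) (s : F.obj.obj (op V)) :
    tr F e (TopCat.Presheaf.germ F.obj V y hy s) = TopCat.Presheaf.germ F.obj V y' (e ▸ hy) s := by
  subst e; rfl

variable {T : Over S}

/-- A family of germs which is locally the family of germs of a section. -/
def IsGerms (V : Opens T.left) (s : ∀ p : V, (St F (T.hom p.1) : Type u)) : Prop :=
  ∀ p : V, ∃ (W : Opens T.left) (hW : W ≤ V) (_ : p.1 ∈ W) (U : Opens S)
    (hU : W ≤ (Opens.map T.hom).obj U) (a : F.obj.obj (op U)),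
    ∀ (x : T.left) (hx : x ∈ W), TopCat.Presheaf.germ F.obj U (T.hom x) (hU hx) a = s ⟨x, hW hx⟩

variable (T)

/-- The group of locally germ families. -/
noncomputable def germs (V : Opens T.left) : AddSubgroup (∀ p : V, (St F (T.hom p.1) : Type u)) where
  carrier := {s | IsGerms F V s}
  zero_mem' p := ⟨V, le_rfl, p.2, ⊤, fun _ _ => trivial, 0, fun x _ => map_zero _⟩
  add_mem' {s t} hs ht p := by
    obtain ⟨W, hW, hp, U, hU, a, ha⟩ := hs p
    obtain ⟨W', hW', hp', U', hU', a', ha'⟩ := ht p
    refine ⟨W ⊓ W', inf_le_left.trans hW, ⟨hp, hp'⟩, U ⊓ U',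
      fun x hx => ⟨hU hx.1, hU' hx.2⟩,
      F.obj.map (homOfLE (inf_le_left : U ⊓ U' ≤ U)).op a +
        F.obj.map (homOfLE (inf_le_right : U ⊓ U' ≤ U')).op a', fun x hx => ?_⟩
    erw [map_add, TopCat.Presheaf.germ_res_apply, TopCat.Presheaf.germ_res_apply, ha x hx.1, ha' x hx.2]
    rfl
  neg_mem' {s} hs p := by
    obtain ⟨W, hW, hp, U, hU, a, ha⟩ := hs p
    exact ⟨W, hW, hp, U, hU, -a, fun x hx => by rw [map_neg, ha x hx]; rfl⟩

/-- The presheaf of locally germ families. -/
noncomputable def germsPre : TopCat.Presheaf AddCommGrpCat.{u} T.left where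
  obj V := AddCommGrpCat.of (germs F T V.unop)
  map {V V'} i := AddCommGrpCat.ofHom (AddMonoidHom.mk'
    (fun s => ⟨fun p => s.1 ⟨p.1, leOfHom i.unop p.2⟩, fun p => by
      obtain ⟨W, hW, hp, U, hU, a, ha⟩ := s.2 ⟨p.1, leOfHom i.unop p.2⟩
      exact ⟨W ⊓ V'.unop, inf_le_right, ⟨hp, p.2⟩, U, inf_le_left.trans hU, a,
        fun x hx => ha x hx.1⟩⟩)
    fun _ _ => rfl)
  map_id _ := rfl
  map_comp _ _ := rfl

theorem over_w {T' T : Over S} (h : T' ⟶ T) (x : T'.left) : T.hom (h.left x) = T'.hom x :=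
  ConcreteCategory.congr_hom (Over.w h) x

variable {T} in
/-- The map of locally germ families along a morphism over `S`. -/
noncomputable def germsΦ {T' : Over S} (h : T' ⟶ T) :
    germsPre F T ⟶ (TopCat.Presheaf.pushforward _ h.left).obj (germsPre F T') where
  app V := AddCommGrpCat.ofHom (AddMonoidHom.mk'
    (fun s => ⟨fun p => tr F (over_w h p.1) (s.1 ⟨h.left p.1, p.2⟩), fun p => by
      obtain ⟨W, hW, hp, U, hU, a, ha⟩ := s.2 ⟨h.left p.1, p.2⟩
      refine ⟨(Opens.map h.left).obj W, fun x hx => hW hx, hp, U,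
        fun x hx => show T'.hom x ∈ U from over_w h x ▸ (show T.hom (h.left x) ∈ U from hU hx), a, fun x hx => ?_⟩
      exact (tr_germ F (over_w h x) U (hU hx) a).symm.trans (congrArg _ (ha (h.left x) hx))⟩)
    fun _ _ => Subtype.ext (funext fun _ => map_add _ _ _))
  naturality _ _ _ := rfl

/-- The family of pullbacks. -/
noncomputable def base : Fam S where
  P T := germsPre F T
  Φ h := germsΦ F h
  Φ_id T V a := Subtype.ext (funext fun p => tr_self F _ _)
  Φ_comp k h V a := Subtype.ext (funext fun p => (tr_tr F _ _ _).symm)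

/-- A section over the base as a family of germs. -/
noncomputable def secGerms (U : Opens S) :
    (F.obj.obj (op U) : Type u) →+ germs F T ((Opens.map T.hom).obj U) :=
  AddMonoidHom.mk'
    (fun a => ⟨fun p => TopCat.Presheaf.germ F.obj U (T.hom p.1) p.2 a,
      fun p => ⟨_, le_rfl, p.2, U, le_rfl, a, fun _ _ => rfl⟩⟩)
    fun _ _ => Subtype.ext (funext fun _ => map_add _ _ _)

/-- The unit into the locally germ families. -/
noncomputable def baseUnit : F.obj ⟶ (TopCat.Presheaf.pushforward _ T.hom).obj (germsPre F T) where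
  app U := AddCommGrpCat.ofHom (secGerms F T U.unop)
  naturality U U' i := by
    refine ConcreteCategory.hom_ext _ _ fun a => Subtype.ext (funext fun p => ?_)
    exact TopCat.Presheaf.germ_res_apply F.obj i.unop _ p.2 a

/-- The augmentation of the resolution. -/
noncomputable def ι : (CohTop.pull T.hom).obj F ⟶ GS (base F) 0 T :=
  ((TopCat.Sheaf.pullbackPushforwardAdjunction AddCommGrpCat.{u} T.hom).homEquiv _ _).symm
    (ObjectProperty.homMk (baseUnit F T ≫
      (TopCat.Presheaf.pushforward AddCommGrpCat.{u} T.hom).map (ηPre (germsPre F T))))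

/-- The unit of the adjunction, on sections. -/
noncomputable def unit (U : Opens S) :
    F.obj.obj (op U) ⟶ ((CohTop.pull T.hom).obj F).obj.obj (op ((Opens.map T.hom).obj U)) :=
  ((TopCat.Sheaf.pullbackPushforwardAdjunction AddCommGrpCat.{u} T.hom).unit.app F).hom.app (op U)

theorem unit_ι (U : Opens S) (a : F.obj.obj (op U)) :
    (ι F T).hom.app _ (unit F T U a) =
      (ηPre (germsPre F T)).app (op ((Opens.map T.hom).obj U)) (secGerms F T U a) := by
  have := ((TopCat.Sheaf.pullbackPushforwardAdjunction AddCommGrpCat.{u} T.hom).homEquiv F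
    (GS (base F) 0 T)).apply_symm_apply (ObjectProperty.homMk (baseUnit F T ≫
      (TopCat.Presheaf.pushforward AddCommGrpCat.{u} T.hom).map (ηPre (germsPre F T))))
  erw [Adjunction.homEquiv_apply] at this
  exact ConcreteCategory.congr_hom
    (congrArg (fun φ => φ.hom.app (op U)) this) a

/-- The map on stalks induced by the unit. -/
noncomputable def σ (x : T.left) :
    TopCat.Presheaf.stalk F.obj (T.hom x) ⟶
      TopCat.Presheaf.stalk ((CohTop.pull T.hom).obj F).obj x :=
  (TopCat.Presheaf.stalkFunctor AddCommGrpCat.{u} (T.hom x)).map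
      ((TopCat.Sheaf.pullbackPushforwardAdjunction AddCommGrpCat.{u} T.hom).unit.app F).hom ≫
    TopCat.Presheaf.stalkPushforward AddCommGrpCat.{u} T.hom ((CohTop.pull T.hom).obj F).obj x

theorem σ_germ (x : T.left) (U : Opens S) (hx : T.hom x ∈ U) :
    TopCat.Presheaf.germ F.obj U (T.hom x) hx ≫ σ F T x =
      unit F T U ≫
        TopCat.Presheaf.germ ((CohTop.pull T.hom).obj F).obj ((Opens.map T.hom).obj U) x hx := by
  unfold σ
  erw [TopCat.Presheaf.stalkFunctor_map_germ_assoc]
  erw [TopCat.Presheaf.stalkPushforward_germ]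
  rfl

theorem epi_σ (x : T.left) : Epi (σ F T x) := by
  classical
  refine ⟨fun {A} u v huv => ?_⟩
  let P := (CohTop.pull T.hom).obj F
  let φu : P ⟶ skyscraperSheaf x A := ObjectProperty.homMk (toSkyscraperPresheaf x u)
  let φv : P ⟶ skyscraperSheaf x A := ObjectProperty.homMk (toSkyscraperPresheaf x v)
  suffices hφ : φu = φv by
    rw [← fromStalk_to_skyscraper (𝓕 := P.obj) x u, ← fromStalk_to_skyscraper (𝓕 := P.obj) x v]
    exact congrArg (fun φ : P ⟶ skyscraperSheaf x A => fromStalk x φ.hom) hφ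
  apply ((TopCat.Sheaf.pullbackPushforwardAdjunction AddCommGrpCat.{u} T.hom).homEquiv F _).injective
  erw [Adjunction.homEquiv_apply, Adjunction.homEquiv_apply]
  apply CategoryTheory.Sheaf.hom_ext
  ext1
  funext U
  by_cases hx : T.hom x ∈ U.unop
  · change unit F T U.unop ≫ (toSkyscraperPresheaf x u).app (op ((Opens.map T.hom).obj U.unop)) =
      unit F T U.unop ≫ (toSkyscraperPresheaf x v).app (op ((Opens.map T.hom).obj U.unop))
    have hx' : x ∈ (Opens.map T.hom).obj U.unop := hx
    simp only [toSkyscraperPresheaf_app]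
    erw [dif_pos hx', dif_pos hx']
    erw [← reassoc_of% (σ_germ F T x U.unop hx), ← reassoc_of% (σ_germ F T x U.unop hx),
      reassoc_of% huv]
  · exact ((if_neg hx).symm.ndrec terminalIsTerminal).hom_ext _ _

theorem σ_surjective (x : T.left) : Function.Surjective (σ F T x) :=
  (AddCommGrpCat.epi_iff_surjective _).1 (epi_σ F T x)

theorem ι_dGS : ι F T ≫ dGS (base F) 0 T = 0 := by
  apply ((TopCat.Sheaf.pullbackPushforwardAdjunction AddCommGrpCat.{u} T.hom).homEquiv F _).injective
  erw [Adjunction.homEquiv_apply, Adjunction.homEquiv_apply, Functor.map_zero, comp_zero]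
  apply CategoryTheory.Sheaf.hom_ext
  ext1
  funext U
  refine ConcreteCategory.hom_ext _ _ fun a => ?_
  change (dGS (base F) 0 T).hom.app _ ((ι F T).hom.app _ (unit F T U.unop a)) = 0
  rw [unit_ι]
  show (ηPre _).app _ ((qMk (germsPre F T)).app _ _) = 0
  refine (congrArg _ ((qMk_eq_zero_iff (germsPre F T) _ _).2 ⟨secGerms F T U.unop a, rfl⟩)).trans ?_
  exact map_zero _

theorem ι_stalk_injective (x : T.left)
    (t : TopCat.Presheaf.stalk (C := AddCommGrpCat.{u}) (X := T.left) ((CohTop.pull T.hom).obj F).obj x)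
    (h : (TopCat.Presheaf.stalkFunctor _ x).map (ι F T).hom t = 0) : t = 0 := by
  obtain ⟨t₀, rfl⟩ := σ_surjective F T x t
  obtain ⟨U, hU, a, rfl⟩ := TopCat.Presheaf.exists_germ_eq F.obj t₀
  erw [ConcreteCategory.congr_hom (σ_germ F T x U hU) a] at h ⊢
  erw [TopCat.Presheaf.stalkFunctor_map_germ_apply _ x hU (ι F T).hom (unit F T U a), unit_ι] at h
  obtain ⟨W, hxW, i, hW⟩ := exists_zero_near _ x _ hU _ h
  obtain ⟨W', hxW', i', hW'⟩ := exists_zero_near (germsPre F T) x ((Opens.map T.hom).obj U) hU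
    (secGerms F T U a) (congrFun hW ⟨x, hxW⟩)
  have h0 : TopCat.Presheaf.germ F.obj U (T.hom x) hU a = 0 :=
    congrFun (congrArg Subtype.val hW') ⟨x, hxW'⟩
  exact (ConcreteCategory.congr_hom (σ_germ F T x U hU) a).symm.trans
    ((congrArg (σ F T x) h0).trans (map_zero _))

theorem σ_injective (x : T.left) : Function.Injective (σ F T x) := by
  refine (injective_iff_map_eq_zero _).2 fun t₀ h => ?_
  obtain ⟨U, hU, a, rfl⟩ := TopCat.Presheaf.exists_germ_eq F.obj t₀
  have h' := congrArg ((TopCat.Presheaf.stalkFunctor AddCommGrpCat.{u} x).map (ι F T).hom) h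
  erw [ConcreteCategory.congr_hom (σ_germ F T x U hU) a, map_zero,
    TopCat.Presheaf.stalkFunctor_map_germ_apply _ x hU (ι F T).hom (unit F T U a), unit_ι] at h'
  obtain ⟨W, hxW, i, hW⟩ := exists_zero_near _ x _ hU _ h'
  obtain ⟨W', hxW', i', hW'⟩ := exists_zero_near (germsPre F T) x ((Opens.map T.hom).obj U) hU
    (secGerms F T U a) (congrFun hW ⟨x, hxW⟩)
  exact congrFun (congrArg Subtype.val hW') ⟨x, hxW'⟩

theorem ι_stalk_exact (x : T.left) (t : TopCat.Presheaf.stalk (C := AddCommGrpCat.{u}) (X := T.left) (GS (base F) 0 T).obj x)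
    (h : (TopCat.Presheaf.stalkFunctor _ x).map (dGS (base F) 0 T).hom t = 0) :
    ∃ t', (TopCat.Presheaf.stalkFunctor _ x).map (ι F T).hom t' = t := by
  obtain ⟨V, hV, s, rfl⟩ := TopCat.Presheaf.exists_germ_eq (GS (base F) 0 T).obj t
  erw [TopCat.Presheaf.stalkFunctor_map_germ_apply V x hV (dGS (base F) 0 T).hom s] at h
  obtain ⟨W, hxW, i, hW⟩ := exists_zero_near _ x V hV _ h
  obtain ⟨W', hxW', i', hW'⟩ := exists_zero_near (qPre (germsPre F T)) x V (i hxW)
    ((qMk _).app (op V) s) (congrFun hW ⟨x, hxW⟩)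
  erw [← ConcreteCategory.congr_hom ((qMk _).naturality (homOfLE i').op) s] at hW'
  obtain ⟨l, hl⟩ := (qMk_eq_zero_iff _ _ _).1 hW'
  obtain ⟨W'', hW'', hxW'', U, hU, a, ha⟩ := l.2 ⟨x, hxW'⟩
  refine ⟨σ F T x (TopCat.Presheaf.germ F.obj U (T.hom x) (hU hxW'') a), ?_⟩
  erw [ConcreteCategory.congr_hom (σ_germ F T x U (hU hxW'')) a,
    TopCat.Presheaf.stalkFunctor_map_germ_apply _ x (hU hxW'') (ι F T).hom (unit F T U a), unit_ι]
  have e1 : (germsPre F T).map (homOfLE hU).op (secGerms F T U a) =
      (germsPre F T).map (homOfLE hW'').op l :=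
    Subtype.ext (funext fun p => ha p.1 p.2)
  have n1 := ConcreteCategory.congr_hom ((ηPre (germsPre F T)).naturality (homOfLE hU).op)
    (secGerms F T U a)
  have n2 := ConcreteCategory.congr_hom ((ηPre (germsPre F T)).naturality (homOfLE hW'').op) l
  have e2 : (gdPre (germsPre F T)).map (homOfLE hU).op
        ((ηPre (germsPre F T)).app _ (secGerms F T U a)) =
      (gdPre (germsPre F T)).map (homOfLE hW'').op ((gdPre (germsPre F T)).map (homOfLE i').op s) :=
    n1.symm.trans ((congrArg ((ηPre (germsPre F T)).app (op W'')) e1).trans (n2.trans (congrArg ((gdPre (germsPre F T)).map (homOfLE hW'').op) hl)))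
  have e3 := congrArg (TopCat.Presheaf.germ (gdPre (germsPre F T)) W'' x hxW'') e2
  refine (TopCat.Presheaf.germ_res_apply (gdPre (germsPre F T)) (homOfLE hU) x hxW'' _).symm.trans
    (e3.trans ?_)
  exact (TopCat.Presheaf.germ_res_apply (gdPre (germsPre F T)) (homOfLE hW'') x hxW'' _).trans
    (TopCat.Presheaf.germ_res_apply (gdPre (germsPre F T)) (homOfLE i') x hxW' s)

theorem mono_ι : Mono (ι F T) := by
  refine Preadditive.mono_of_cancel_zero _ fun {Z} g hg => ?_
  apply CategoryTheory.Sheaf.hom_ext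
  ext1
  funext V
  refine ConcreteCategory.hom_ext _ _ fun s => ?_
  refine TopCat.Presheaf.section_ext ((CohTop.pull T.hom).obj F) V.unop _ _ fun x hx => ?_
  refine Eq.trans ?_ (map_zero (TopCat.Presheaf.germ ((CohTop.pull T.hom).obj F).obj V.unop x hx).hom).symm
  refine ι_stalk_injective F T x _ ?_
  refine (TopCat.Presheaf.stalkFunctor_map_germ_apply V.unop x hx (ι F T).hom _).trans ?_
  have := ConcreteCategory.congr_hom (congrArg (fun φ => φ.hom.app V) hg) s
  exact (congrArg _ this).trans (map_zero _)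

theorem exact_ι : (ShortComplex.mk _ _ (ι_dGS F T)).Exact := by
  refine (TopCat.Sheaf.exact_iff_stalkFunctor_map_exact (C := AddCommGrpCat.{u}) _).2 fun x => ?_
  rw [ShortComplex.ab_exact_iff]
  exact fun t h => ι_stalk_exact F T x t h

theorem exact_dGS (M : Fam S) (q : ℕ) :
    (ShortComplex.mk _ _ (dGS_comp M q T)).Exact := by
  refine (TopCat.Sheaf.exact_iff_stalkFunctor_map_exact (C := AddCommGrpCat.{u}) _).2 fun x => ?_
  rw [ShortComplex.ab_exact_iff]
  exact fun t h => dGS_stalk_exact M q T x t h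

end Groth.Agent.CohTop.Descent.Base
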