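import Groth.Agent.CohTop.CechBasic
import Mathlib.Algebra.Homology.HomologicalComplex
import Mathlib.GroupTheory.QuotientGroup.Basic

/-!
# Functorial Godement resolutions on the spaces over a base

`Fam S` : compatible families of presheaves on all spaces over `S`; `next` : the presheaf cokernel
of the Godement embedding; `GS` : the Godement sheaves of the iterates.
-/

universe u

open CategoryTheory CategoryTheory.Limits Opposite TopologicalSpace

namespace Groth.Agent.CohTop.Descent.Fam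

open Groth.Agent.CohAff

/-- A presheaf on each space over `S`, functorial in the space. -/
structure Fam (S : TopCat.{u}) where
  P : ∀ T : Over S, TopCat.Presheaf AddCommGrpCat.{u} T.left
  Φ : ∀ {T' T : Over S} (h : T' ⟶ T), P T ⟶ (TopCat.Presheaf.pushforward _ h.left).obj (P T')
  Φ_id : ∀ (T : Over S) (V : Opens T.left) (a : (P T).obj (op V)),
    (Φ (𝟙 T)).app (op V) a = a
  Φ_comp : ∀ {T'' T' T : Over S} (k : T'' ⟶ T') (h : T' ⟶ T) (V : Opens T.left)
    (a : (P T).obj (op V)),
    (Φ (k ≫ h)).app (op V) a = (Φ k).app (op ((Opens.map h.left).obj V)) ((Φ h).app (op V) a)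

variable {S : TopCat.{u}} (M : Fam S)

/-- The map on stalks along a morphism over `S`. -/
noncomputable def sm {T' T : Over S} (h : T' ⟶ T) (x : T'.left) :
    (M.P T).stalk (h.left x) ⟶ (M.P T').stalk x :=
  (TopCat.Presheaf.stalkFunctor AddCommGrpCat.{u} (h.left x)).map (M.Φ h) ≫
    (M.P T').stalkPushforward AddCommGrpCat.{u} h.left x

theorem sm_germ {T' T : Over S} (h : T' ⟶ T) (x : T'.left) (V : Opens T.left) (hx : h.left x ∈ V)
    (a : (M.P T).obj (op V)) :
    sm M h x ((M.P T).germ V (h.left x) hx a) =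
      (M.P T').germ ((Opens.map h.left).obj V) x hx ((M.Φ h).app (op V) a) := by
  erw [sm, ConcreteCategory.comp_apply]
  erw [TopCat.Presheaf.stalkFunctor_map_germ_apply V (h.left x) hx (M.Φ h) a]
  exact ConcreteCategory.congr_hom
    (TopCat.Presheaf.stalkPushforward_germ AddCommGrpCat.{u} h.left (M.P T') V x hx) _

theorem sm_id {T : Over S} (x : T.left) (t : (M.P T).stalk x) : sm M (𝟙 T) x t = t := by
  obtain ⟨V, hV, a, rfl⟩ := TopCat.Presheaf.exists_germ_eq (M.P T) t
  refine (sm_germ M (𝟙 T) x V hV a).trans ?_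
  rw [M.Φ_id]
  rfl

theorem sm_comp {T'' T' T : Over S} (k : T'' ⟶ T') (h : T' ⟶ T) (x : T''.left)
    (t : (M.P T).stalk (h.left (k.left x))) :
    sm M (k ≫ h) x t = sm M k x (sm M h (k.left x) t) := by
  obtain ⟨V, hV, a, rfl⟩ := TopCat.Presheaf.exists_germ_eq (M.P T) t
  rw [sm_germ]
  erw [sm_germ M (k ≫ h) x V hV a, sm_germ M k x ((Opens.map h.left).obj V) hV]
  rw [M.Φ_comp]
  rfl

/-- Functoriality of the families of germs. -/
noncomputable def gdΦ {T' T : Over S} (h : T' ⟶ T) :
    gdPre (M.P T) ⟶ (TopCat.Presheaf.pushforward _ h.left).obj (gdPre (M.P T')) where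
  app V := AddCommGrpCat.ofHom (AddMonoidHom.mk'
    (fun s (x : (Opens.map h.left).obj V.unop) => sm M h x.1 (s ⟨h.left x.1, x.2⟩))
    fun _ _ => funext fun _ => map_add _ _ _)
  naturality _ _ _ := rfl

theorem gdΦ_apply {T' T : Over S} (h : T' ⟶ T) (V : Opens T.left)
    (s : (gdPre (M.P T)).obj (op V)) (x : (Opens.map h.left).obj V) :
    (gdΦ M h).app (op V) s x = sm M h x.1 (s ⟨h.left x.1, x.2⟩) := rfl

theorem η_gdΦ {T' T : Over S} (h : T' ⟶ T) (V : Opens T.left) (a : (M.P T).obj (op V)) :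
    (gdΦ M h).app (op V) ((ηPre (M.P T)).app (op V) a) =
      (ηPre (M.P T')).app (op ((Opens.map h.left).obj V)) ((M.Φ h).app (op V) a) :=
  funext fun x => sm_germ M h x.1 V x.2 a

/-- Families of germs of one section. -/
noncomputable def rng {X : TopCat.{u}} (F : TopCat.Presheaf AddCommGrpCat.{u} X)
    (V : (Opens X)ᵒᵖ) : AddSubgroup (∀ p : V.unop, (F.stalk (p : X) : Type u)) :=
  ((ηPre F).app V).hom.range

instance {X : TopCat.{u}} (F : TopCat.Presheaf AddCommGrpCat.{u} X) (V : (Opens X)ᵒᵖ) :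
    (rng F V).Normal :=
  ⟨fun a ha b => by rwa [add_comm b a, add_neg_cancel_right]⟩

/-- The presheaf cokernel of the Godement embedding. -/
noncomputable def qPre {X : TopCat.{u}} (F : TopCat.Presheaf AddCommGrpCat.{u} X) :
    TopCat.Presheaf AddCommGrpCat.{u} X where
  obj V := AddCommGrpCat.of ((∀ p : V.unop, (F.stalk (p : X) : Type u)) ⧸ rng F V)
  map {V W} i := AddCommGrpCat.ofHom (QuotientAddGroup.map _ _ ((gdPre F).map i).hom (by
    rintro - ⟨a, rfl⟩
    exact ⟨F.map i a, ConcreteCategory.congr_hom ((ηPre F).naturality i) a⟩))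
  map_id V := by
    refine ConcreteCategory.hom_ext _ _ fun x => ?_
    obtain ⟨s, rfl⟩ := QuotientAddGroup.mk_surjective x
    rfl
  map_comp i j := by
    refine ConcreteCategory.hom_ext _ _ fun x => ?_
    obtain ⟨s, rfl⟩ := QuotientAddGroup.mk_surjective x
    rfl

/-- The projection to the cokernel. -/
noncomputable def qMk {X : TopCat.{u}} (F : TopCat.Presheaf AddCommGrpCat.{u} X) :
    gdPre F ⟶ qPre F where
  app V := AddCommGrpCat.ofHom
    (QuotientAddGroup.mk' (G := ∀ p : V.unop, (F.stalk (p : X) : Type u)) (rng F V))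
  naturality _ _ _ := rfl

theorem qMk_surjective {X : TopCat.{u}} (F : TopCat.Presheaf AddCommGrpCat.{u} X)
    (V : (Opens X)ᵒᵖ) : Function.Surjective ((qMk F).app V) :=
  QuotientAddGroup.mk_surjective

theorem qMk_eq_zero_iff {X : TopCat.{u}} (F : TopCat.Presheaf AddCommGrpCat.{u} X)
    (V : (Opens X)ᵒᵖ) (s : (gdPre F).obj V) :
    (qMk F).app V s = 0 ↔ ∃ a, (ηPre F).app V a = s :=
  QuotientAddGroup.eq_zero_iff (G := ∀ p : V.unop, (F.stalk (p : X) : Type u)) (N := rng F V) s

/-- The next family. -/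
noncomputable def next : Fam S where
  P T := qPre (M.P T)
  Φ {T' T} h :=
    { app := fun V => AddCommGrpCat.ofHom (QuotientAddGroup.map _ _ ((gdΦ M h).app V).hom (by
        rintro - ⟨a, rfl⟩
        exact ⟨(M.Φ h).app V a, (η_gdΦ M h V.unop a).symm⟩))
      naturality := fun V W i => by
        refine ConcreteCategory.hom_ext _ _ fun x => ?_
        obtain ⟨s, rfl⟩ := QuotientAddGroup.mk_surjective x
        rfl }
  Φ_id T V a := by
    obtain ⟨s, rfl⟩ := QuotientAddGroup.mk_surjective a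
    exact congrArg (QuotientAddGroup.mk' _) (funext fun x => sm_id M x.1 _)
  Φ_comp k h V a := by
    obtain ⟨s, rfl⟩ := QuotientAddGroup.mk_surjective a
    exact congrArg (QuotientAddGroup.mk' _) (funext fun x => sm_comp M k h x.1 _)

/-- The iterated families. -/
noncomputable def iter : ℕ → Fam S
  | 0 => M
  | q + 1 => next (iter q)

/-- The Godement sheaves. -/
noncomputable def GS (q : ℕ) (T : Over S) : CohTop.Ab T.left :=
  ⟨gdPre ((iter M q).P T), gdPre_isSheaf _⟩

theorem isFlasque_GS (q : ℕ) (T : Over S) : TopCat.Sheaf.IsFlasque (GS M q T) where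
  epi {U V} i := by
    rw [AddCommGrpCat.epi_iff_surjective]
    intro (s : ∀ p : V.unop, (TopCat.Presheaf.stalk (C := AddCommGrpCat.{u}) (X := T.left) ((iter M q).P T) (p : T.left) : Type u))
    classical
    refine ⟨fun p : U.unop => if h : (p : T.left) ∈ V.unop then s ⟨p, h⟩ else 0, ?_⟩
    funext (p : V.unop)
    exact dif_pos p.2

/-- The differential. -/
noncomputable def dGS (q : ℕ) (T : Over S) : GS M q T ⟶ GS M (q + 1) T :=
  ⟨qMk ((iter M q).P T) ≫ ηPre (qPre ((iter M q).P T))⟩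

theorem dGS_comp (q : ℕ) (T : Over S) : dGS M q T ≫ dGS M (q + 1) T = 0 := by
  apply CategoryTheory.Sheaf.hom_ext
  ext V s
  show (ηPre _).app V ((qMk _).app V ((ηPre _).app V ((qMk ((iter M q).P T)).app V s))) = 0
  rw [(qMk_eq_zero_iff _ V _).2 ⟨_, rfl⟩, map_zero]

theorem dGS_naturality (q : ℕ) {T' T : Over S} (h : T' ⟶ T) (V : Opens T.left)
    (s : (GS M q T).obj.obj (op V)) :
    (gdΦ (iter M (q + 1)) h).app (op V) ((dGS M q T).hom.app (op V) s) =
      (dGS M q T').hom.app (op ((Opens.map h.left).obj V)) ((gdΦ (iter M q) h).app (op V) s) :=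
  (η_gdΦ (iter M (q + 1)) h V _).trans rfl

/-- The complex of Godement sheaves. -/
noncomputable abbrev GSCx (T : Over S) : CochainComplex (CohTop.Ab T.left) ℕ :=
  CochainComplex.of (fun q => GS M q T) (fun q => dGS M q T) fun q => dGS_comp M q T

/-- The complexes of global sections, as a functor. -/
noncomputable def cx : (Over S)ᵒᵖ ⥤ CochainComplex AddCommGrpCat.{u} ℕ where
  obj T := CochainComplex.of (fun q => (GS M q T.unop).obj.obj (op ⊤))
    (fun q => (dGS M q T.unop).hom.app (op ⊤))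
    fun q => by
      exact congrArg (fun φ : GS M q T.unop ⟶ GS M (q + 1 + 1) T.unop => φ.hom.app (op ⊤)) (dGS_comp M q T.unop)
  map {T T'} h := CochainComplex.ofHom
    (fun q => (gdΦ (iter M q) h.unop).app (op ⊤)) fun q => by
      simp only [CochainComplex.of_d]
      refine ConcreteCategory.hom_ext _ _ fun s => ?_
      exact (dGS_naturality M q h.unop ⊤ s).symm
  map_id T := by
    refine HomologicalComplex.hom_ext _ _ fun q => ?_
    refine ConcreteCategory.hom_ext _ _ fun s => funext fun x => ?_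
    exact sm_id (iter M q) x.1 _
  map_comp {T T' T''} h k := by
    refine HomologicalComplex.hom_ext _ _ fun q => ?_
    refine ConcreteCategory.hom_ext _ _ fun s => funext fun x => ?_
    exact sm_comp (iter M q) k.unop h.unop x.1 _

theorem exists_zero_near {X : TopCat.{u}} (F : TopCat.Presheaf AddCommGrpCat.{u} X) (x : X)
    (W : Opens X) (hxW : x ∈ W) (s : F.obj (op W)) (h : F.germ W x hxW s = 0) :
    ∃ (W' : Opens X) (_ : x ∈ W') (i : W' ≤ W), F.map (homOfLE i).op s = 0 := by
  obtain ⟨W', hx, i₁, i₂, e⟩ :=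
    TopCat.Presheaf.germ_eq (F := F) x hxW hxW s 0 (by rw [h, map_zero])
  exact ⟨W', hx, leOfHom i₁, e.trans (map_zero _)⟩

theorem η_stalk_injective {X : TopCat.{u}} (F : TopCat.Presheaf AddCommGrpCat.{u} X) (x : X)
    (t : F.stalk x) (h : (TopCat.Presheaf.stalkFunctor _ x).map (ηPre F) t = 0) : t = 0 := by
  obtain ⟨V, hV, a, rfl⟩ := TopCat.Presheaf.exists_germ_eq F t
  erw [TopCat.Presheaf.stalkFunctor_map_germ_apply V x hV (ηPre F) a] at h
  obtain ⟨W, hxW, i, hW⟩ := exists_zero_near (gdPre F) x V hV _ h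
  exact congrFun hW ⟨x, hxW⟩

theorem dGS_stalk_exact (q : ℕ) (T : Over S) (x : T.left)
    (t : (gdPre ((iter M (q + 1)).P T)).stalk x)
    (h : (TopCat.Presheaf.stalkFunctor _ x).map (dGS M (q + 1) T).hom t = 0) :
    ∃ t', (TopCat.Presheaf.stalkFunctor _ x).map (dGS M q T).hom t' = t := by
  obtain ⟨V, hV, s, rfl⟩ := TopCat.Presheaf.exists_germ_eq (gdPre ((iter M (q + 1)).P T)) t
  erw [TopCat.Presheaf.stalkFunctor_map_germ_apply V x hV (dGS M (q + 1) T).hom s] at h
  obtain ⟨W, hxW, i, hW⟩ := exists_zero_near _ x V hV _ h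
  have h1 := congrFun hW ⟨x, hxW⟩
  obtain ⟨W', hxW', i', hW'⟩ := exists_zero_near (qPre ((iter M (q + 1)).P T)) x V (i hxW)
    ((qMk _).app (op V) s) h1
  erw [← ConcreteCategory.congr_hom ((qMk _).naturality (homOfLE i').op) s] at hW'
  obtain ⟨a, ha⟩ := (qMk_eq_zero_iff _ _ _).1 hW'
  obtain ⟨b, rfl⟩ := qMk_surjective ((iter M q).P T) _ a
  refine ⟨(gdPre ((iter M q).P T)).germ W' x hxW' b, ?_⟩
  erw [TopCat.Presheaf.stalkFunctor_map_germ_apply W' x hxW' (dGS M q T).hom b]
  exact (congrArg _ ha).trans (TopCat.Presheaf.germ_res_apply _ _ x hxW' s)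

end Groth.Agent.CohTop.Descent.Fam
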