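import Groth.Agent.SpSeqLib.FinFil

/-!
# The spectral sequence of a finitely filtered complex

`ss K` is a spectral sequence starting at page `1` with terms `K.E r p (p + q)`;
`exists_abutment` equips it with abutment data with finite filtrations on `H^n(K)`.
-/

namespace Groth.Agent.CohTop.Descent.FilSS

open CategoryTheory CategoryTheory.Limits SpSeq Groth.Agent.SpSeqLib

universe v u

variable {A : Type u} [Category.{v} A] [Abelian A] (K : FilCx A)

/-- The differential with free indices. -/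
noncomputable def dEc (r : ℕ) (p n p' n' : ℤ) (hp : p + r = p') (hn : n + 1 = n') :
    K.E r p n ⟶ K.E r p' n' :=
  dE K r p n ≫ eqToHom (by rw [hp, hn])

theorem dE_comp_dE (r : ℕ) (p n : ℤ) : dE K r p n ≫ dE K r (p + r) (n + 1) = 0 := by
  rw [← cancel_epi (toE K r p n), comp_zero, ← Category.assoc, toE_dE]
  have hlift : (U K (p + r + r + 1) (p + r) (n + 1)).Factors
      ((U K (p + r) p n).arrow ≫ K.obj.d n (n + 1)) := by
    rw [U_factors_iff]
    refine ⟨((U_factors_iff K _ _ _ _).1 (SubElem.factors_arrow _)).2, ?_⟩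
    rw [Category.assoc, HomologicalComplex.d_comp_d, comp_zero]
    exact Subobject.factors_zero
  have hl : (U K (p + r + r + 1) (p + r) (n + 1)).factorThru _ hlift ≫ toKer K r (p + r) (n + 1) =
      dAux K r p n := by
    rw [toKer, ← Category.assoc, dAux]
    congr 1
    rw [← cancel_mono (Subobject.arrow _)]
    simp
  rw [← hl, Category.assoc, toKer_dE, comp_zero]

theorem dEc_comp_dEc (r : ℕ) (p₀ n₀ p n p₂ n₂ : ℤ) (hp₀ : p₀ + r = p) (hn₀ : n₀ + 1 = n)
    (hp : p + r = p₂) (hn : n + 1 = n₂) :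
    dEc K r p₀ n₀ p n hp₀ hn₀ ≫ dEc K r p n p₂ n₂ hp hn = 0 := by
  subst hp₀ hn₀ hp hn
  simp [dEc, dE_comp_dE]

theorem exists_exact_kernel_lift (r : ℕ) (p' n' : ℤ) :
    ∃ (w : kernel.lift _ _ (dE_comp_dE K r p' n') ≫ kerToNext K r (p' + r) (n' + 1) = 0),
      (ShortComplex.mk _ _ w).Exact := by
  have hlift : (U K (p' + r + r + 1) (p' + r) (n' + 1)).Factors
      ((U K (p' + r) p' n').arrow ≫ K.obj.d n' (n' + 1)) := by
    rw [U_factors_iff]
    refine ⟨((U_factors_iff K _ _ _ _).1 (SubElem.factors_arrow _)).2, ?_⟩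
    rw [Category.assoc, HomologicalComplex.d_comp_d, comp_zero]
    exact Subobject.factors_zero
  obtain ⟨δ, hδ0, hδ⟩ := dE_prev_comp K r (p' + r) (n' + 1) p' n' rfl rfl
  let l := (U K (p' + r + r + 1) (p' + r) (n' + 1)).factorThru _ hlift
  have hl : l ≫ toKer K r (p' + r) (n' + 1) = dAux K r p' n' := by
    rw [toKer, ← Category.assoc, dAux]
    congr 1
    rw [← cancel_mono (Subobject.arrow _)]
    simp [l]
  let δ' := kernel.lift _ _ (dE_comp_dE K r p' n')
  have hδ' : toE K r p' n' ≫ δ' = l ≫ kernel.lift _ _ (toKer_dE K r (p' + r) (n' + 1)) := by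
    rw [← cancel_mono (kernel.ι _), Category.assoc, Category.assoc, kernel.lift_ι, kernel.lift_ι,
      toE_dE, hl]
  have w : δ' ≫ kerToNext K r (p' + r) (n' + 1) = 0 := by
    rw [← cancel_epi (toE K r p' n'), comp_zero, ← Category.assoc, hδ', Category.assoc,
      lift_kerToNext, comp_toNext_eq_zero_iff]
    refine (BSub_factors_iff K (r + 1) (p' + r) (n' + 1) n' p' rfl (by omega) _).2
      ⟨_, 𝟙 _, inferInstance, (U K (p' + r) p' n').arrow, 0,
        ((U_factors_iff K _ _ _ _).1 (SubElem.factors_arrow _)).1,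
        ((U_factors_iff K _ _ _ _).1 (SubElem.factors_arrow _)).2, Subobject.factors_zero, ?_⟩
    simp [l]
  refine ⟨w, ?_⟩
  rw [ShortComplex.exact_iff_exact_up_to_refinements]
  intro W y hy
  change y ≫ kerToNext K r (p' + r) (n' + 1) = 0 at hy
  have : Epi (kernel.lift _ _ (toKer_dE K r (p' + r) (n' + 1))) :=
    (toKer_exact K r (p' + r) (n' + 1)).epi_kernelLift
  obtain ⟨W₁, e₁, he₁, x, hx⟩ := surjective_up_to_refinements_of_epi
    (kernel.lift _ _ (toKer_dE K r (p' + r) (n' + 1))) y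
  have hx0 : x ≫ toNext K r (p' + r) (n' + 1) = 0 := by
    rw [← lift_kerToNext, ← Category.assoc, ← hx, Category.assoc, hy, comp_zero]
  rw [comp_toNext_eq_zero_iff] at hx0
  obtain ⟨W₂, e₂, he₂, w', b, hw, hdw, hb, eq⟩ :=
    (BSub_factors_iff K (r + 1) (p' + r) (n' + 1) n' p' rfl (by omega) _).1 hx0
  obtain ⟨u, hu⟩ := (SubElem.factors_iff_exists _).1
    (show (U K (p' + r) p' n').Factors w' from (U_factors_iff K _ _ _ _).2 ⟨hw, hdw⟩)
  refine ⟨W₂, e₂ ≫ e₁, epi_comp _ _, u ≫ toE K r p' n', ?_⟩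
  change (e₂ ≫ e₁) ≫ y = (u ≫ toE K r p' n') ≫ δ'
  rw [Category.assoc, hx, Category.assoc, hδ', ← cancel_mono (kernel.ι _)]
  simp only [Category.assoc, kernel.lift_ι]
  rw [hl, dAux, toKer, ← sub_eq_zero, ← Category.assoc x, ← Category.assoc e₂,
    ← Category.assoc u, ← Preadditive.sub_comp, comp_toE_eq_zero_iff]
  refine Subobject.factors_of_le _ (filX_succ_le_BSub K r (p' + r) (n' + 1)) ?_
  convert hb using 1
  simp [Preadditive.sub_comp, eq, reassoc_of% hu, l]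

theorem nonempty_homology_iso (r : ℕ) (p₀ n₀ p n p₂ n₂ : ℤ) (hp₀ : p₀ + r = p) (hn₀ : n₀ + 1 = n)
    (hp : p + r = p₂) (hn : n + 1 = n₂) :
    Nonempty ((ShortComplex.mk _ _ (dEc_comp_dEc K r p₀ n₀ p n p₂ n₂ hp₀ hn₀ hp hn)).homology ≅
      K.E (r + 1) p n) := by
  subst hp₀ hn₀ hp hn
  obtain ⟨w, hw⟩ := exists_exact_kernel_lift K r p₀ n₀
  haveI : Epi (ShortComplex.mk _ _ w).g := epi_kerToNext K r (p₀ + r) (n₀ + 1)
  let S := ShortComplex.mk _ _ (dE_comp_dE K r p₀ n₀)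
  let S' := ShortComplex.mk _ _ (dEc_comp_dEc K r p₀ n₀ (p₀ + r) (n₀ + 1) (p₀ + r + r) (n₀ + 1 + 1)
    rfl rfl rfl rfl)
  refine ⟨ShortComplex.homologyMapIso (ShortComplex.isoMk (S₁ := S') (S₂ := S) (Iso.refl _) (Iso.refl _) (Iso.refl _)
    (by simp [S, S', dEc]) (by simp [S, S', dEc])) ≪≫
    S.homologyIsoCokernelLift ≪≫
    (cokernelIsCokernel _).coconePointUniqueUpToIso hw.gIsCokernel⟩

/-- A page. -/
noncomputable def page (r : ℤ) (hr : 0 ≤ r) :
    HomologicalComplex A (ComplexShape.up' ((r, 1 - r) : ℤ × ℤ)) where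
  X pq := K.E r.toNat pq.1 (pq.1 + pq.2)
  d pq pq' :=
    if h : pq.1 + r.toNat = pq'.1 ∧ pq.1 + pq.2 + 1 = pq'.1 + pq'.2 then
      dEc K r.toNat pq.1 (pq.1 + pq.2) pq'.1 (pq'.1 + pq'.2) h.1 h.2
    else 0
  shape := by
    rintro ⟨p, q⟩ ⟨p', q'⟩ h
    simp only [ComplexShape.up'_Rel, Prod.mk_add_mk, Prod.mk.injEq, not_and] at h
    rw [dif_neg]
    rintro ⟨h₁, h₂⟩
    exact h (by simp at h₁; omega) (by simp at h₁ h₂; omega)
  d_comp_d' := by
    rintro ⟨p, q⟩ ⟨p', q'⟩ ⟨p'', q''⟩ - -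
    split_ifs with h h'
    · exact dEc_comp_dEc K _ _ _ _ _ _ _ h.1 h.2 h'.1 h'.2
    · simp
    · simp
    · simp

theorem nonempty_iso (r : ℤ) (hr : 0 ≤ r) (r' : ℤ) (h : r + 1 = r') (pq : ℤ × ℤ) :
    Nonempty ((page K r hr).homology pq ≅ (page K r' (by omega)).X pq) := by
  subst h
  obtain ⟨p, q⟩ := pq
  let a : ℤ × ℤ := (p - r, q - (1 - r))
  let b : ℤ × ℤ := (p + r, q + (1 - r))
  have ha : a.1 + r.toNat = p ∧ a.1 + a.2 + 1 = p + q := ⟨by simp [a]; omega, by simp [a]; omega⟩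
  have hb : p + r.toNat = b.1 ∧ p + q + 1 = b.1 + b.2 := ⟨by simp [b]; omega, by simp [b]; omega⟩
  obtain ⟨e⟩ := nonempty_homology_iso K r.toNat a.1 (a.1 + a.2) p (p + q) b.1 (b.1 + b.2)
    ha.1 ha.2 hb.1 hb.2
  refine ⟨(page K r hr).homologyIsoSc' a (p, q) b
      (ComplexShape.prev_eq' _ (ComplexShape.up'_mk _ _ _ (by simp [a])))
      (ComplexShape.next_eq' _ (ComplexShape.up'_mk _ _ _ (by simp [b]))) ≪≫
    ShortComplex.homologyMapIso (ShortComplex.isoMk (S₁ := (page K r hr).sc' a (p, q) b)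
      (S₂ := ShortComplex.mk _ _ (dEc_comp_dEc K r.toNat a.1 (a.1 + a.2) p (p + q) b.1 (b.1 + b.2)
        ha.1 ha.2 hb.1 hb.2)) (Iso.refl _) (Iso.refl _) (Iso.refl _) ?_ ?_) ≪≫ e ≪≫
    eqToIso (show K.E (r.toNat + 1) p (p + q) = K.E (r + 1).toNat p (p + q) by
      rw [show (r + 1).toNat = r.toNat + 1 by omega])⟩
  · simp only [page, HomologicalComplex.shortComplexFunctor'_obj_f, dif_pos ha, Iso.refl_hom]
    exact (Category.id_comp _).trans (Category.comp_id _).symm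
  · simp only [page, HomologicalComplex.shortComplexFunctor'_obj_g, dif_pos hb, Iso.refl_hom]
    exact (Category.id_comp _).trans (Category.comp_id _).symm

/-- The spectral sequence of a filtered complex, from page one. -/
noncomputable def ss : CohomologicalSpectralSequence A 1 where
  page r hr := page K r (by omega)
  iso r r' pq hrr' hr := (nonempty_iso K r (by omega) r' hrr' pq).some

theorem page_one_X (p q : ℤ) : ((ss K).page 1 le_rfl).X (p, q) = K.E 1 p (p + q) := rfl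

variable (hK : ∀ n : ℤ, (K.XFil n).IsFinite)

include hK in
theorem isZero_E_of_large (p n : ℤ) : ∃ r₀ : ℕ, ∀ r, r₀ ≤ r →
    IsZero (K.E r (p + r) (n + 1)) ∧ IsZero (K.E r (p - r) (n - 1)) := by
  obtain ⟨-, b, -, hb⟩ := exists_bounds K hK (n + 1)
  obtain ⟨a, -, ha, -⟩ := exists_bounds K hK (n - 1)
  refine ⟨(b - p).toNat + (p - a).toNat + 1, fun r hr => ⟨?_, ?_⟩⟩
  · refine (subquot_isZero_iff _ _ _).2 (le_antisymm (K.BSub_le_ZSub r _ _) ?_)
    exact sup_le (inf_le_left.trans ((hb (p + r) (by omega)).le.trans bot_le)) le_sup_right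
  · refine (subquot_isZero_iff _ _ _).2 (le_antisymm (K.BSub_le_ZSub r _ _) ?_)
    exact le_top.trans ((ha (p - r + 1) (by omega)).symm.le.trans le_sup_right)

include hK in
theorem exists_abutment (H : ℤ → A) (e : ∀ n, K.obj.homology n ≅ H n) :
    ∃ a : SpSeq.Abutment (ss K) H, ∀ n, a.IsFinite n := by
  choose r₁ hr₁ using fun pq : ℤ × ℤ => exists_stationary K hK pq.1 (pq.1 + pq.2)
  choose r₂ hr₂ using fun pq : ℤ × ℤ => isZero_E_of_large K hK pq.1 (pq.1 + pq.2)
  let rk : ℤ × ℤ → ℤ := fun pq => ((r₁ pq + r₂ pq + 1 : ℕ) : ℤ)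
  have hstat : ∀ pq, SpSeq.StationaryAt (ss K) pq (rk pq) := by
    intro pq
    refine ⟨by simp [rk]; omega, fun r hr hrk => ⟨?_, ?_⟩⟩
    · refine IsZero.eq_of_src ?_ _ _
      have := (hr₂ pq r.toNat (by simp [rk] at hrk; omega)).2
      exact IsZero.of_iso this (eqToIso (show K.E r.toNat (pq.1 - r) (pq.1 - r + (pq.2 - (1 - r))) = _ by
        congr 1 <;> omega))
    · refine IsZero.eq_of_tgt ?_ _ _
      have := (hr₂ pq r.toNat (by simp [rk] at hrk; omega)).1
      exact IsZero.of_iso this (eqToIso (show K.E r.toNat (pq.1 + r) (pq.1 + r + (pq.2 + (1 - r))) = _ by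
        congr 1 <;> omega))
  let fil : ∀ n : ℤ, ℤ → Subobject (H n) := fun n p => (Subobject.map (e n).hom).obj (K.filH p n)
  have hfil : ∀ n, Antitone (fil n) := fun n p q h =>
    ((Subobject.map (e n).hom).map (homOfLE (K.filH_anti n h))).le
  have hβ : ∀ pq, Nonempty ((((ss K).page (rk pq) (hstat pq).1)).X pq ≅
      grPiece (fil (pq.1 + pq.2)) (hfil (pq.1 + pq.2)) pq.1) := by
    intro pq
    obtain ⟨hZ, hB⟩ := hr₁ pq (rk pq).toNat (by simp [rk]; omega)
    obtain ⟨e₁⟩ := nonempty_iso_subquot_of_eq (K.BSub_le_ZSub (rk pq).toNat pq.1 (pq.1 + pq.2))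
      (BBot_le_ZTop K pq.1 (pq.1 + pq.2)) hZ hB
    obtain ⟨e₂⟩ := nonempty_grPiece_iso K pq.1 (pq.1 + pq.2)
    obtain ⟨e₃⟩ := nonempty_grPiece_map (K.HFil (pq.1 + pq.2)).fil (K.HFil (pq.1 + pq.2)).anti
      (e (pq.1 + pq.2)) (hfil (pq.1 + pq.2)) pq.1
    exact ⟨e₁ ≪≫ e₂.symm ≪≫ e₃⟩
  refine ⟨⟨fil, hfil, rk, hstat, fun pq => (hβ pq).some⟩, fun n => ?_⟩
  obtain ⟨⟨a, ha⟩, b, hb⟩ := hFil_finite K hK n
  refine ⟨⟨a, ?_⟩, b, ?_⟩
  · change (Subobject.map (e n).hom).obj (K.filH a n) = ⊤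
    rw [show K.filH a n = ⊤ from ha, Subobject.map_top]
    exact (Subobject.isIso_iff_mk_eq_top (e n).hom).1 inferInstance
  · change (Subobject.map (e n).hom).obj (K.filH b n) = ⊥
    rw [show K.filH b n = ⊥ from hb]
    exact Subobject.map_bot _
where
  nonempty_grPiece_map {M N : A} (F : ℤ → Subobject M) (hF : Antitone F) (e : M ≅ N)
      (hF' : Antitone fun p => (Subobject.map e.hom).obj (F p)) (p : ℤ) :
      Nonempty (grPiece F hF p ≅ grPiece (fun p => (Subobject.map e.hom).obj (F p)) hF' p) := by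
    have key : ∀ q, ∃ i : (F q : A) ≅ ((Subobject.map e.hom).obj (F q) : A),
        i.hom ≫ ((Subobject.map e.hom).obj (F q)).arrow = (F q).arrow ≫ e.hom := fun q => by
      have h : (Subobject.map e.hom).obj (F q) = Subobject.mk ((F q).arrow ≫ e.hom) := by
        conv_lhs => rw [← Subobject.mk_arrow (F q), Subobject.map_mk]
      exact ⟨(Subobject.underlyingIso _).symm ≪≫ eqToIso (congrArg (fun S : Subobject N => (S : A)) h.symm),
        by rw [Iso.trans_hom, Category.assoc, eqToIso.hom, Subobject.arrow_congr _ _ h.symm,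
          Iso.symm_hom, Subobject.underlyingIso_arrow]⟩
    obtain ⟨i, hi⟩ := key p
    obtain ⟨j, hj⟩ := key (p + 1)
    refine ⟨cokernel.mapIso _ _ j i ?_⟩
    rw [← cancel_mono ((Subobject.map e.hom).obj (F p)).arrow]
    simp [hi, hj]

end Groth.Agent.CohTop.Descent.FilSS
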