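import Mathlib.AlgebraicTopology.CechNerve
import Mathlib.AlgebraicTopology.SimplicialObject.Basic
import Mathlib.Topology.Category.TopCat.Limits.Basic
import Mathlib.CategoryTheory.Limits.Shapes.ConcreteCategory

/-!
# The Čech nerve of a map of spaces, over the base
-/

universe u

open CategoryTheory CategoryTheory.Limits Opposite Simplicial

namespace Groth.Agent.CohTop.Descent.Nerve

variable {X S : TopCat.{u}} (f : X ⟶ S)

/-- The base. -/
noncomputable abbrev top (S : TopCat.{u}) : Over S := Over.mk (𝟙 S)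

/-- The map to the base. -/
noncomputable abbrev toTop (T : Over S) : T ⟶ top S := Over.homMk T.hom (Category.comp_id _)

/-- The `(p+1)`-fold fibre product. -/
noncomputable abbrev N (p : ℕ) : Over S :=
  Over.mk (WidePullback.base (fun _ : Fin (p + 1) => f) :
    widePullback S (fun _ : Fin (p + 1) => X) (fun _ => f) ⟶ S)

/-- The projections. -/
noncomputable abbrev proj (p : ℕ) (i : Fin (p + 1)) : (N f p).left ⟶ X :=
  WidePullback.π (fun _ : Fin (p + 1) => f) i

theorem proj_comp (p : ℕ) (i : Fin (p + 1)) : proj f p i ≫ f = (N f p).hom :=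
  WidePullback.π_arrow _ i

theorem f_proj (p : ℕ) (i : Fin (p + 1)) (x : (N f p).left) : f (proj f p i x) = (N f p).hom x :=
  ConcreteCategory.congr_hom (proj_comp f p i) x

/-- A morphism to the fibre product. -/
noncomputable def liftHom {p : ℕ} {T : Over S} (c : Fin (p + 1) → (T.left ⟶ X))
    (hc : ∀ i, c i ≫ f = T.hom) : T ⟶ N f p :=
  Over.homMk (WidePullback.lift T.hom c hc) (WidePullback.lift_base _ _ _ _)

theorem liftHom_proj {p : ℕ} {T : Over S} (c : Fin (p + 1) → (T.left ⟶ X))
    (hc : ∀ i, c i ≫ f = T.hom) (i : Fin (p + 1)) : (liftHom f c hc).left ≫ proj f p i = c i :=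
  WidePullback.lift_π _ _ _ _ i

theorem liftHom_proj_apply {p : ℕ} {T : Over S} (c : Fin (p + 1) → (T.left ⟶ X))
    (hc : ∀ i, c i ≫ f = T.hom) (i : Fin (p + 1)) (x : T.left) :
    proj f p i ((liftHom f c hc).left x) = c i x :=
  ConcreteCategory.congr_hom (liftHom_proj f c hc i) x

theorem hom_ext {p : ℕ} {T : Over S} {a b : T ⟶ N f p}
    (h : ∀ i, a.left ≫ proj f p i = b.left ≫ proj f p i) : a = b :=
  Over.OverMorphism.ext (WidePullback.hom_ext _ _ _ h ((Over.w a).trans (Over.w b).symm))

/-- The simplicial space over the base. -/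
noncomputable def nerve : SimplicialObject (Over S) where
  obj n := N f n.unop.len
  map {n m} g := liftHom f (fun i => proj f n.unop.len (g.unop.toOrderHom i))
    (fun i => proj_comp f _ _)
  map_id n := hom_ext f fun i => by
    rw [liftHom_proj]
    exact (Category.id_comp _).symm
  map_comp {n m k} g g' := hom_ext f fun i => by
    rw [liftHom_proj, Over.comp_left, Category.assoc, liftHom_proj, liftHom_proj]
    rfl

/-- The faces. -/
noncomputable def face (p : ℕ) (i : Fin (p + 2)) : N f (p + 1) ⟶ N f p :=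
  liftHom f (fun j => proj f (p + 1) (i.succAbove j)) (fun j => proj_comp f _ _)

theorem nerve_δ (p : ℕ) (i : Fin (p + 2)) : (nerve f).δ i = face f p i := rfl

theorem face_proj_apply (p : ℕ) (i : Fin (p + 2)) (j : Fin (p + 1)) (x : (N f (p + 1)).left) :
    proj f p j ((face f p i).left x) = proj f (p + 1) (i.succAbove j) x :=
  liftHom_proj_apply f _ _ j x

theorem point_ext {p : ℕ} {x y : (N f p).left} (h : ∀ i, proj f p i x = proj f p i y) : x = y :=
  Concrete.widePullback_ext' (fun _ : Fin (p + 1) => f) x y h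

theorem exists_point (p : ℕ) (v : S) (c : Fin (p + 1) → X) (hc : ∀ i, f (c i) = v) :
    ∃ x : (N f p).left, ∀ i, proj f p i x = c i := by
  let P : Over S := Over.mk (TopCat.ofHom (ContinuousMap.const PUnit.{u + 1} v))
  let c' : Fin (p + 1) → (P.left ⟶ X) := fun i => TopCat.ofHom (ContinuousMap.const PUnit.{u + 1} (c i))
  have hc' : ∀ i, c' i ≫ f = P.hom := fun i => ConcreteCategory.hom_ext _ _ fun _ => hc i
  exact ⟨(liftHom f c' hc').left PUnit.unit, fun i => liftHom_proj_apply f c' hc' i _⟩

variable (σ : S → X) (hσ : ∀ v, f (σ v) = v)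

/-- The contraction on points. -/
noncomputable def sPt (p : ℕ) (x : (N f p).left) : (N f (p + 1)).left :=
  (exists_point f (p + 1) ((N f p).hom x)
    (Fin.cons (σ ((N f p).hom x)) fun i => proj f p i x : Fin (p + 2) → X) fun i => by
    induction i using Fin.cases with
    | zero => exact hσ _
    | succ i => exact f_proj f p i x).choose

theorem proj_sPt (p : ℕ) (x : (N f p).left) (i : Fin (p + 2)) :
    proj f (p + 1) i (sPt f σ hσ p x) =
      (Fin.cons (σ ((N f p).hom x)) fun i => proj f p i x : Fin (p + 2) → X) i :=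
  (exists_point f (p + 1) ((N f p).hom x)
    (Fin.cons (σ ((N f p).hom x)) fun i => proj f p i x : Fin (p + 2) → X) fun i => by
    induction i using Fin.cases with
    | zero => exact hσ _
    | succ i => exact f_proj f p i x).choose_spec i

theorem hom_sPt (p : ℕ) (x : (N f p).left) :
    (N f (p + 1)).hom (sPt f σ hσ p x) = (N f p).hom x := by
  rw [← f_proj f (p + 1) (Fin.succ 0), proj_sPt, Fin.cons_succ, f_proj]

/-- The section on the points of the first term. -/
noncomputable def sPt₀ (v : S) : (N f 0).left :=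
  (exists_point f 0 v (fun _ => σ v) fun _ => hσ v).choose

theorem proj_sPt₀ (v : S) (i : Fin 1) : proj f 0 i (sPt₀ f σ hσ v) = σ v :=
  (exists_point f 0 v (fun _ => σ v) fun _ => hσ v).choose_spec i

theorem hom_sPt₀ (v : S) : (N f 0).hom (sPt₀ f σ hσ v) = v := by
  rw [← f_proj f 0 0, proj_sPt₀, hσ]

theorem face_hom_apply (p : ℕ) (i : Fin (p + 2)) (x : (N f (p + 1)).left) :
    (N f p).hom ((face f p i).left x) = (N f (p + 1)).hom x :=
  ConcreteCategory.congr_hom (Over.w (face f p i)) x

theorem sPt_face_zero (p : ℕ) (x : (N f p).left) :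
    (face f p 0).left (sPt f σ hσ p x) = x :=
  point_ext f fun i => by
    rw [face_proj_apply, proj_sPt, Fin.succAbove_zero, Fin.cons_succ]

theorem sPt_face_succ (p : ℕ) (i : Fin (p + 2)) (x : (N f (p + 1)).left) :
    (face f (p + 1) i.succ).left (sPt f σ hσ (p + 1) x) = sPt f σ hσ p ((face f p i).left x) :=
  point_ext f fun j => by
    rw [face_proj_apply, proj_sPt, proj_sPt]
    induction j using Fin.cases with
    | zero => rw [Fin.succ_succAbove_zero, Fin.cons_zero, Fin.cons_zero, face_hom_apply]
    | succ j => rw [Fin.succ_succAbove_succ, Fin.cons_succ, Fin.cons_succ, face_proj_apply]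

theorem sPt_face_one (x : (N f 0).left) :
    (face f 0 1).left (sPt f σ hσ 0 x) = sPt₀ f σ hσ ((N f 0).hom x) :=
  point_ext f fun j => by
    rw [face_proj_apply, proj_sPt, proj_sPt₀]
    obtain rfl : j = 0 := Fin.ext (by omega)
    simp

end Groth.Agent.CohTop.Descent.Nerve
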