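import Groth.Agent.CohTop.Descent.Base
import Groth.Agent.CohTop.Descent.Nerve
import Mathlib.Topology.IsLocalHomeomorph

/-!
# Local homeomorphisms do not change the stalks of the Godement families
-/

universe u

open CategoryTheory CategoryTheory.Limits Opposite TopologicalSpace

namespace Groth.Agent.CohTop.Descent.InvLocal

open Groth.Agent.CohAff Groth.Agent.CohTop.Descent.Fam Groth.Agent.CohTop.Descent.Base

variable {S : TopCat.{u}}

theorem sm_base_bijective (F : CohTop.Ab S) {T' T : Over S} (h : T' ⟶ T) (x : T'.left) :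
    Function.Bijective (sm (base F) h x) := by
  constructor
  · refine (injective_iff_map_eq_zero _).2 fun t ht => ?_
    obtain ⟨V, hV, a, rfl⟩ := TopCat.Presheaf.exists_germ_eq ((base F).P T) t
    erw [sm_germ] at ht
    obtain ⟨W', hxW', i, hW'⟩ := exists_zero_near ((base F).P T') x _ hV _ ht
    obtain ⟨W, hW, hp, U, hU, b, hb⟩ := a.2 ⟨h.left x, hV⟩
    have h0 : tr F (over_w h x) (a.1 ⟨h.left x, hV⟩) = 0 :=
      congrFun (congrArg Subtype.val hW') ⟨x, hxW'⟩
    have h1 : a.1 ⟨h.left x, hV⟩ = 0 := by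
      have := congrArg (tr F (over_w h x).symm) h0
      rwa [tr_tr, map_zero, tr_self] at this
    have hxU : T.hom (h.left x) ∈ U := hU hp
    obtain ⟨U', hxU', iU, hU'⟩ :=
      exists_zero_near F.obj (T.hom (h.left x)) U hxU b ((hb _ hp).trans h1)
    have hW0 : ((base F).P T).map (homOfLE ((inf_le_left : W ⊓ (Opens.map T.hom).obj U' ≤ W).trans hW)).op a = 0 :=
      Subtype.ext (funext fun p => by
        refine (hb p.1 p.2.1).symm.trans ?_
        exact (TopCat.Presheaf.germ_res_apply F.obj (homOfLE iU) (T.hom p.1) p.2.2 b).symm.trans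
          ((congrArg (TopCat.Presheaf.germ F.obj U' (T.hom p.1) p.2.2) hU').trans (map_zero _)))
    refine (TopCat.Presheaf.germ_res_apply ((base F).P T)
      (homOfLE ((inf_le_left : W ⊓ (Opens.map T.hom).obj U' ≤ W).trans hW)) (h.left x) ⟨hp, hxU'⟩ a).symm.trans ?_
    exact (congrArg _ hW0).trans (map_zero _)
  · intro t
    obtain ⟨V, hV, a, rfl⟩ := TopCat.Presheaf.exists_germ_eq ((base F).P T') t
    obtain ⟨W, hW, hp, U, hU, b, hb⟩ := a.2 ⟨x, hV⟩
    have hxU : h.left x ∈ (Opens.map T.hom).obj U := by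
      show T.hom (h.left x) ∈ U
      rw [over_w h x]; exact hU hp
    refine ⟨((base F).P T).germ _ (h.left x) hxU (secGerms F T U b), ?_⟩
    erw [sm_germ]
    have hle : W ≤ (Opens.map h.left).obj ((Opens.map T.hom).obj U) := fun y hy => by
      show T.hom (h.left y) ∈ U
      rw [over_w h y]; exact hU hy
    have e : ((base F).P T').map (homOfLE hle).op
          (((base F).Φ h).app (op ((Opens.map T.hom).obj U)) (secGerms F T U b)) =
        ((base F).P T').map (homOfLE hW).op a :=
      Subtype.ext (funext fun p => (tr_germ F (over_w h p.1) U _ b).trans (hb p.1 p.2))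
    refine (TopCat.Presheaf.germ_res_apply ((base F).P T') (homOfLE hle) x hp _).symm.trans
      ((congrArg _ e).trans ?_)
    exact TopCat.Presheaf.germ_res_apply ((base F).P T') (homOfLE hW) x hp a

variable (M : Fam S) {T' T : Over S} (h : T' ⟶ T)

theorem bijective_next (hh : IsLocalHomeomorph h.left)
    (IH : ∀ x, Function.Bijective (sm M h x)) (x : T'.left) :
    Function.Bijective (sm (next M) h x) := by
  obtain ⟨e, hxe, he⟩ := hh x
  have hinj : Set.InjOn h.left e.source := fun a ha b hb hab =>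
    e.injOn ha hb (by rwa [← he])
  let O : Opens T'.left := ⟨e.source, e.open_source⟩
  constructor
  · refine (injective_iff_map_eq_zero _).2 fun t ht => ?_
    obtain ⟨V, hV, a, rfl⟩ := TopCat.Presheaf.exists_germ_eq ((next M).P T) t
    obtain ⟨s, rfl⟩ := qMk_surjective (M.P T) _ a
    erw [sm_germ] at ht
    obtain ⟨W, hxW, i, hW⟩ := exists_zero_near ((next M).P T') x _ hV _ ht
    have hW' : (qMk (M.P T')).app (op W)
        ((gdPre (M.P T')).map (homOfLE i).op ((gdΦ M h).app (op V) s)) = 0 := hW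
    obtain ⟨a, ha⟩ := (qMk_eq_zero_iff _ _ _).1 hW'
    obtain ⟨b₀, hb₀⟩ := (IH x).2 ((M.P T').germ W x hxW a)
    obtain ⟨U, hU, b, rfl⟩ := TopCat.Presheaf.exists_germ_eq (M.P T) b₀
    erw [sm_germ] at hb₀
    obtain ⟨W₁, hxW₁, i₁, i₂, e₁⟩ := TopCat.Presheaf.germ_eq (F := M.P T') x _ _ _ _ hb₀
    let W₂ : Opens T'.left := W₁ ⊓ O
    let V₂ : Opens T.left :=
      ⟨h.left '' W₂, hh.isOpenMap _ W₂.2⟩
    have hVV : V₂ ≤ V := by
      rintro _ ⟨y, hy, rfl⟩
      exact i (leOfHom i₂ hy.1)
    have hVU : V₂ ≤ U := by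
      rintro _ ⟨y, hy, rfl⟩
      exact leOfHom i₁ hy.1
    have hx₂ : h.left x ∈ V₂ := ⟨x, ⟨hxW₁, hxe⟩, rfl⟩
    have key : (gdPre (M.P T)).map (homOfLE hVV).op s =
        (ηPre (M.P T)).app (op V₂) ((M.P T).map (homOfLE hVU).op b) := by
      refine funext fun p => ?_
      obtain ⟨y, hy, hyp⟩ := p.2
      obtain ⟨pv, hp⟩ := p
      subst hyp
      apply (IH y).1
      refine (congrFun ha.symm ⟨y, leOfHom i₂ hy.1⟩).trans ?_
      refine (TopCat.Presheaf.germ_res_apply (M.P T') i₂ y hy.1 a).symm.trans ?_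
      refine (congrArg _ e₁).symm.trans ?_
      refine (TopCat.Presheaf.germ_res_apply (M.P T') i₁ y hy.1 _).trans ?_
      refine (sm_germ M h y U (leOfHom i₁ hy.1) b).symm.trans (congrArg (sm M h y) ?_)
      exact (TopCat.Presheaf.germ_res_apply (M.P T) (homOfLE hVU) (h.left y) hp b).symm
    refine (TopCat.Presheaf.germ_res_apply ((next M).P T) (homOfLE hVV) (h.left x) hx₂
      ((qMk (M.P T)).app (op V) s)).symm.trans ?_
    have : ((next M).P T).map (homOfLE hVV).op ((qMk (M.P T)).app (op V) s) = 0 :=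
      (qMk_eq_zero_iff (M.P T) (op V₂) _).2 ⟨_, key.symm⟩
    exact (congrArg _ this).trans (map_zero _)
  · intro t
    obtain ⟨V, hV, a, rfl⟩ := TopCat.Presheaf.exists_germ_eq ((next M).P T') t
    obtain ⟨s, rfl⟩ := qMk_surjective (M.P T') _ a
    let W : Opens T'.left := V ⊓ O
    let U : Opens T.left := ⟨h.left '' W, hh.isOpenMap _ W.2⟩
    let pre : ∀ p : U, T'.left := fun p => (show ∃ y, y ∈ W ∧ h.left y = p.1 from p.2).choose
    have hpre : ∀ p : U, pre p ∈ W ∧ h.left (pre p) = p.1 := fun p =>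
      (show ∃ y, y ∈ W ∧ h.left y = p.1 from p.2).choose_spec
    let b : ∀ p : U, (TopCat.Presheaf.stalk (C := AddCommGrpCat.{u}) (X := T.left) (M.P T) p.1 : Type u) := fun p =>
      (hpre p).2 ▸ ((IH (pre p)).2 (s ⟨pre p, (hpre p).1.1⟩)).choose
    refine ⟨((next M).P T).germ U (h.left x) ⟨x, ⟨hV, hxe⟩, rfl⟩ ((qMk (M.P T)).app (op U) b), ?_⟩
    erw [sm_germ]
    have hle : W ≤ (Opens.map h.left).obj U := fun y hy => ⟨y, hy, rfl⟩
    have key : (gdPre (M.P T')).map (homOfLE hle).op ((gdΦ M h).app (op U) b) =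
        (gdPre (M.P T')).map (homOfLE (inf_le_left : W ≤ V)).op s := by
      refine funext fun y => ?_
      show sm M h y.1 (b ⟨h.left y.1, hle y.2⟩) = s ⟨y.1, y.2.1⟩
      have aux : ∀ (z : T'.left) (hz : z ∈ W) (p : U) (e : h.left z = p.1)
          (c : (TopCat.Presheaf.stalk (C := AddCommGrpCat.{u}) (X := T.left) (M.P T) (h.left z) : Type u)),
          sm M h z c = s ⟨z, hz.1⟩ → z = y.1 → ∀ (hy : h.left y.1 = p.1),
          sm M h y.1 (hy.symm ▸ (e ▸ c : (TopCat.Presheaf.stalk (C := AddCommGrpCat.{u}) (X := T.left) (M.P T) p.1 : Type u))) = s ⟨y.1, y.2.1⟩ := by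
        rintro z hz ⟨pv, hp⟩ e c hc rfl hy
        dsimp only at hy
        subst hy
        exact hc
      exact aux (pre ⟨_, hle y.2⟩) (hpre _).1 ⟨_, hle y.2⟩ (hpre _).2 _
        ((IH (pre ⟨_, hle y.2⟩)).2 _).choose_spec
        (hinj (hpre _).1.2 y.2.2 (hpre ⟨_, hle y.2⟩).2) rfl
    refine (TopCat.Presheaf.germ_res_apply ((next M).P T') (homOfLE hle) x ⟨hV, hxe⟩ _).symm.trans ?_
    refine Eq.trans ?_
      (TopCat.Presheaf.germ_res_apply ((next M).P T') (homOfLE (inf_le_left : W ≤ V)) x ⟨hV, hxe⟩ _)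
    exact congrArg _ (congrArg ((qMk (M.P T')).app (op W)) key)

theorem bijective_iter (F : CohTop.Ab S) (hh : IsLocalHomeomorph h.left) :
    ∀ q x, Function.Bijective (sm (iter (base F) q) h x)
  | 0 => sm_base_bijective F h
  | q + 1 => bijective_next (iter (base F) q) h hh (bijective_iter F hh q)

/-- The fibre products of a local homeomorphism are local homeomorphisms over the base. -/
theorem isLocalHomeomorph_base {X : TopCat.{u}} (f : X ⟶ S) (hf : IsLocalHomeomorph f) (p : ℕ) :
    IsLocalHomeomorph (Nerve.N f p).hom := by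
  classical
  let N := Nerve.N f p
  refine IsLocalHomeomorph.mk _ fun x => ?_
  choose e hxe he using fun i => hf (Nerve.proj f p i x)
  let V : Set S := ⋂ i, (e i).target
  let O : Set N.left := ⋂ i, Nerve.proj f p i ⁻¹' (e i).source
  have hmaps : ∀ y ∈ O, N.hom y ∈ V := fun y hy => Set.mem_iInter.2 fun i => by
    rw [← Nerve.f_proj f p i y, he i]
    exact (e i).map_source (Set.mem_iInter.1 hy i)
  let P : Over S := Over.mk (TopCat.ofHom ⟨((↑) : V → S), continuous_subtype_val⟩ : TopCat.of V ⟶ S)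
  let c : Fin (p + 1) → (P.left ⟶ X) := fun i => TopCat.ofHom
    ⟨fun v => (e i).symm v.1, (e i).continuousOn_symm.comp_continuous continuous_subtype_val
      fun v => Set.mem_iInter.1 v.2 i⟩
  have hc : ∀ i, c i ≫ f = P.hom := fun i => ConcreteCategory.hom_ext _ _ fun v => by
    show f ((e i).symm v.1) = v.1
    rw [he i]
    exact (e i).right_inv (Set.mem_iInter.1 v.2 i)
  let τ := (Nerve.liftHom f c hc).left
  have hτb : ∀ v, N.hom (τ v) = v.1 := fun v =>
    ConcreteCategory.congr_hom (Over.w (Nerve.liftHom f c hc)) v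
  have hτp : ∀ v i, Nerve.proj f p i (τ v) = (e i).symm v.1 := fun v i =>
    Nerve.liftHom_proj_apply f c hc i v
  refine ⟨{
    toFun := N.hom
    invFun := fun v => if h : v ∈ V then τ ⟨v, h⟩ else x
    source := O
    target := V
    map_source' := hmaps
    map_target' := fun v hv => by
      rw [dif_pos hv]
      refine Set.mem_iInter.2 fun i => ?_
      show Nerve.proj f p i (τ ⟨v, hv⟩) ∈ (e i).source
      rw [hτp]
      exact (e i).map_target (Set.mem_iInter.1 hv i)
    left_inv' := fun y hy => by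
      rw [dif_pos (hmaps y hy)]
      refine Nerve.point_ext f fun i => ?_
      rw [hτp]
      show (e i).symm (N.hom y) = _
      rw [← Nerve.f_proj f p i y, he i]
      exact (e i).left_inv (Set.mem_iInter.1 hy i)
    right_inv' := fun v hv => by rw [dif_pos hv]; exact hτb ⟨v, hv⟩
    open_source := isOpen_iInter_of_finite fun i =>
      (e i).open_source.preimage (Nerve.proj f p i).hom.continuous
    open_target := isOpen_iInter_of_finite fun i => (e i).open_target
    continuousOn_toFun := N.hom.hom.continuous.continuousOn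
    continuousOn_invFun := by
      rw [continuousOn_iff_continuous_restrict]
      exact τ.hom.continuous.congr fun v => by
        simp only [Set.domRestrict_apply, dif_pos v.2]
        rfl },
    Set.mem_iInter.2 hxe, fun _ _ => rfl⟩

end Groth.Agent.CohTop.Descent.InvLocal
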