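import Groth.Agent.CohTop.Descent.Nerve
import Groth.Agent.CohTop.Descent.Fam
import Mathlib.Algebra.BigOperators.Fin

/-!
# Exactness of the rows

`exact_of_homotopy` : alternating sums of maps with an extra degeneracy form an exact complex.
`transfer` : the families of germs are functorial in maps of points when stalks do not change.
-/

universe u

open CategoryTheory CategoryTheory.Limits Opposite TopologicalSpace

namespace Groth.Agent.CohTop.Descent.Rows

open Groth.Agent.CohAff Groth.Agent.CohTop.Descent.Fam Groth.Agent.CohTop.Descent.Nerve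

section Abstract

variable {E : ℕ → Type u} [∀ p, AddCommGroup (E p)] {A : Type u} [AddCommGroup A]
  (δ : ∀ p, Fin (p + 2) → (E p →+ E (p + 1))) (h : ∀ p, E (p + 1) →+ E p)
  (a : A →+ E 0) (h₀ : E 0 →+ A)
  (h_zero : ∀ p x, h p (δ p 0 x) = x)
  (h_succ : ∀ p i x, h (p + 1) (δ (p + 1) i.succ x) = δ p i (h p x))
  (h_one : ∀ x, h 0 (δ 0 1 x) = a (h₀ x)) (h_a : ∀ y, h₀ (a y) = y)

/-- The alternating sum. -/
def dd (p : ℕ) : E p →+ E (p + 1) := ∑ i : Fin (p + 2), (-1 : ℤ) ^ (i : ℕ) • δ p i

theorem dd_apply (p : ℕ) (x : E p) : dd δ p x = ∑ i : Fin (p + 2), (-1 : ℤ) ^ (i : ℕ) • δ p i x := by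
  simp [dd]

include h_zero h_succ in
theorem exact_succ (p : ℕ) (x : E (p + 1)) (hx : dd δ (p + 1) x = 0) : dd δ p (h p x) = x := by
  have := congrArg (h (p + 1)) hx
  rw [dd_apply, map_sum, map_zero, Fin.sum_univ_succ] at this
  simp only [map_neg, map_zsmul, h_zero, h_succ, Fin.val_zero, pow_zero, one_smul, Fin.val_succ, pow_succ,
    mul_neg_one, neg_smul, Finset.sum_neg_distrib] at this
  rw [dd_apply]
  rw [← sub_eq_add_neg, sub_eq_zero] at this
  exact this.symm

include h_zero h_one in
theorem exact_zero (x : E 0) (hx : dd δ 0 x = 0) : a (h₀ x) = x := by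
  have := congrArg (h 0) hx
  rw [dd_apply, map_sum, map_zero, Fin.sum_univ_two] at this
  simp only [map_neg, map_zsmul, h_zero, h_one, Fin.val_zero, pow_zero, one_smul, Fin.val_one, pow_one,
    neg_smul, ← sub_eq_add_neg, sub_eq_zero] at this
  exact this.symm

end Abstract

variable {S : TopCat.{u}} (M : Fam S)

/-- The global families of germs. -/
noncomputable abbrev Γg (T : Over S) : AddCommGrpCat.{u} := (gdPre (M.P T)).obj (op ⊤)

/-- The stalks. -/
noncomputable abbrev Stk (T : Over S) (x : T.left) : AddCommGrpCat.{u} :=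
  TopCat.Presheaf.stalk (M.P T) x

/-- Transport along an equality of points. -/
noncomputable def trP {T : Over S} {x y : T.left} (e : x = y) :
    (Stk M T x : Type u) →+ (Stk M T y : Type u) := e ▸ AddMonoidHom.id _

theorem sm_congr {T' T : Over S} {k k' : T' ⟶ T} (hk : k = k') (x : T'.left)
    (b : Stk M T (k.left x)) :
    sm M k' x (trP M (by rw [hk]) b) = sm M k x b := by
  subst hk; rfl

theorem trP_trP {T : Over S} {x y z : T.left} (e : x = y) (e' : y = z) (b : Stk M T x) :
    trP M e' (trP M e b) = trP M (e.trans e') b := by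
  subst e e'; rfl

theorem trP_self {T : Over S} {x : T.left} (e : x = x) (b : Stk M T x) : trP M e b = b := rfl

/-- The stalks on `T` are those of the base. -/
def Inv (T : Over S) : Prop := ∀ x : T.left, Function.Bijective (sm M (toTop T) x)

variable {M}

/-- The stalk of the base at the image of a point. -/
noncomputable def down {T : Over S} (hT : Inv M T) (x : T.left) :
    (Stk M T x : Type u) ≃+ (Stk M (top S) (T.hom x) : Type u) :=
  (AddEquiv.ofBijective (sm M (toTop T) x).hom (hT x)).symm

theorem sm_down {T : Over S} (hT : Inv M T) (x : T.left) (b : Stk M T x) :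
    sm M (toTop T) x (down hT x b) = b :=
  (AddEquiv.ofBijective (sm M (toTop T) x).hom (hT x)).apply_symm_apply b

theorem down_sm {T : Over S} (hT : Inv M T) (x : T.left) (c : Stk M (top S) (T.hom x)) :
    down hT x (sm M (toTop T) x c) = c :=
  (AddEquiv.ofBijective (sm M (toTop T) x).hom (hT x)).symm_apply_apply c

/-- The comparison of stalks at two points over the same point. -/
noncomputable def tf {T T' : Over S} (hT : Inv M T) (x : T.left) (x' : T'.left)
    (e : T.hom x = T'.hom x') : (Stk M T x : Type u) →+ (Stk M T' x' : Type u) :=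
  (sm M (toTop T') x').hom.comp ((trP M (T := top S) e).comp (down hT x).toAddMonoidHom)

theorem tf_apply {T T' : Over S} (hT : Inv M T) (x : T.left) (x' : T'.left)
    (e : T.hom x = T'.hom x') (b : Stk M T x) :
    tf hT x x' e b = sm M (toTop T') x' (trP M (T := top S) e (down hT x b)) := rfl

theorem tf_tf {T T' T'' : Over S} (hT : Inv M T) (hT' : Inv M T') (x : T.left) (x' : T'.left)
    (x'' : T''.left) (e : T.hom x = T'.hom x') (e' : T'.hom x' = T''.hom x'') (b : Stk M T x) :
    tf hT' x' x'' e' (tf hT x x' e b) = tf hT x x'' (e.trans e') b := by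
  rw [tf_apply, tf_apply, down_sm]
  exact congrArg (sm M (toTop T'') x'') (trP_trP M (T := top S) e e' _)

theorem tf_sm {T T' : Over S} (hT : Inv M T) (k : T' ⟶ T) (x' : T'.left)
    (e : T.hom (k.left x') = T'.hom x') (b : Stk M T (k.left x')) :
    tf hT (k.left x') x' e b = sm M k x' b := by
  conv_rhs => rw [← sm_down hT (k.left x') b]
  rw [tf_apply]
  erw [← sm_comp M k (toTop T) x' (down hT (k.left x') b)]
  exact sm_congr M (show k ≫ toTop T = toTop T' from Over.OverMorphism.ext (Over.w k)) x' _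

theorem tf_congr {T T' : Over S} (hT : Inv M T) (t : Γg M T) {x y : T.left} (hxy : x = y)
    (x' : T'.left) (e : T.hom x = T'.hom x') :
    tf hT x x' e (t ⟨x, trivial⟩) = tf hT y x' (hxy ▸ e) (t ⟨y, trivial⟩) := by
  subst hxy; rfl

/-- Functoriality in maps of points. -/
noncomputable def transfer {T T' : Over S} (hT : Inv M T) (s : T'.left → T.left)
    (hs : ∀ x, T.hom (s x) = T'.hom x) : (Γg M T : Type u) →+ (Γg M T' : Type u) :=
  AddMonoidHom.mk' (fun t x => tf hT (s x.1) x.1 (hs x.1) (t ⟨s x.1, trivial⟩))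
    fun _ _ => funext fun _ => map_add _ _ _

theorem transfer_transfer {T T' T'' : Over S} (hT : Inv M T) (hT' : Inv M T')
    (s : T'.left → T.left) (hs : ∀ x, T.hom (s x) = T'.hom x) (s' : T''.left → T'.left)
    (hs' : ∀ x, T'.hom (s' x) = T''.hom x) (t : Γg M T) :
    transfer hT' s' hs' (transfer hT s hs t) =
      transfer hT (s ∘ s') (fun x => (hs (s' x)).trans (hs' x)) t :=
  funext fun _ => tf_tf hT hT' _ _ _ _ _ _

theorem transfer_congr {T T' : Over S} (hT : Inv M T) {s s' : T'.left → T.left} (h : s = s')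
    (hs : ∀ x, T.hom (s x) = T'.hom x) (t : Γg M T) :
    transfer hT s hs t = transfer hT s' (h ▸ hs) t := by
  subst h; rfl

theorem transfer_hom {T T' : Over S} (hT : Inv M T) (k : T' ⟶ T)
    (hk : ∀ x, T.hom (k.left x) = T'.hom x) (t : Γg M T) :
    transfer hT (fun x => k.left x) hk t = (gdΦ M k).app (op ⊤) t :=
  funext fun x => tf_sm hT k x.1 _ _

theorem transfer_id {T : Over S} (hT : Inv M T) (hk : ∀ x : T.left, T.hom x = T.hom x)
    (t : Γg M T) : transfer hT id hk t = t :=
  funext fun x => (tf_sm hT (𝟙 T) x.1 _ _).trans (sm_id M x.1 _)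

theorem gd_comp (M : Fam S) {T T' T'' : Over S} (k : T'' ⟶ T') (l : T' ⟶ T) (t : Γg M T) :
    (gdΦ M k).app (op ⊤) ((gdΦ M l).app (op ⊤) t) = (gdΦ M (k ≫ l)).app (op ⊤) t :=
  funext fun x => (sm_comp M k l x.1 (t ⟨l.left (k.left x.1), trivial⟩)).symm

theorem gd_id (M : Fam S) {T : Over S} (t : Γg M T) : (gdΦ M (𝟙 T)).app (op ⊤) t = t :=
  funext fun x => sm_id M x.1 _

theorem gd_congr (M : Fam S) {T T' : Over S} {k l : T' ⟶ T} (e : k = l) (t : Γg M T) :
    (gdΦ M k).app (op ⊤) t = (gdΦ M l).app (op ⊤) t := by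
  subst e; rfl

section Cech

variable {X : TopCat.{u}} (f : X ⟶ S) (M)

/-- The faces on global families. -/
noncomputable def δG (p : ℕ) (i : Fin (p + 2)) :
    (Γg M (N f p) : Type u) →+ (Γg M (N f (p + 1)) : Type u) :=
  ((gdΦ M (face f p i)).app (op ⊤)).hom

/-- The augmentation on global families. -/
noncomputable def aG : (Γg M (top S) : Type u) →+ (Γg M (N f 0) : Type u) :=
  ((gdΦ M (toTop (N f 0))).app (op ⊤)).hom

/-- The rows are exact. -/
def RowExact : Prop :=
  Function.Injective (aG M f) ∧ (∀ x, dd (E := fun p => (Γg M (N f p) : Type u)) (δG M f) 0 x = 0 →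
      ∃ y, aG M f y = x) ∧
    ∀ p x, dd (E := fun p => (Γg M (N f p) : Type u)) (δG M f) (p + 1) x = 0 →
      ∃ w, dd (E := fun p => (Γg M (N f p) : Type u)) (δG M f) p w = x

variable {M}

/-- A section on points makes the rows exact when the stalks do not change. -/
theorem rowExact_of_inv (hInv : ∀ p, Inv M (N f p)) (hTop : Inv M (top S)) (σ : S → X)
    (hσ : ∀ v, f (σ v) = v) : RowExact M f := by
  let h : ∀ p, (Γg M (N f (p + 1)) : Type u) →+ (Γg M (N f p) : Type u) := fun p =>
    transfer (hInv (p + 1)) (sPt f σ hσ p) (hom_sPt f σ hσ p)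
  let h₀ : (Γg M (N f 0) : Type u) →+ (Γg M (top S) : Type u) :=
    transfer (hInv 0) (sPt₀ f σ hσ) (hom_sPt₀ f σ hσ)
  have hδ : ∀ p i x, δG M f p i x =
      transfer (hInv p) (fun y => (face f p i).left y) (face_hom_apply f p i) x := fun p i x =>
    (transfer_hom (hInv p) (face f p i) _ x).symm
  have ha : ∀ x, aG M f x = transfer hTop (fun y => (toTop (N f 0)).left y) (fun _ => rfl) x :=
    fun x => (transfer_hom hTop (toTop (N f 0)) _ x).symm
  have h_zero : ∀ p x, h p (δG M f p 0 x) = x := fun p x => by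
    rw [hδ]
    refine (transfer_transfer _ _ _ _ _ _ x).trans ?_
    refine (transfer_congr (hInv p) (s' := id) (funext fun y => sPt_face_zero f σ hσ p y) _ x).trans ?_
    exact transfer_id _ _ x
  have h_succ : ∀ p i x, h (p + 1) (δG M f (p + 1) i.succ x) = δG M f p i (h p x) := fun p i x => by
    rw [hδ, hδ]
    refine (transfer_transfer _ _ _ _ _ _ x).trans ?_
    refine Eq.trans ?_ (transfer_transfer (hInv (p + 1)) (hInv p) _ _ _ _ x).symm
    exact transfer_congr (hInv (p + 1)) (funext fun y => sPt_face_succ f σ hσ p i y) _ x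
  have h_one : ∀ x, h 0 (δG M f 0 1 x) = aG M f (h₀ x) := fun x => by
    rw [hδ, ha]
    refine (transfer_transfer _ _ _ _ _ _ x).trans ?_
    refine Eq.trans ?_ (transfer_transfer (hInv 0) hTop _ _ _ _ x).symm
    exact transfer_congr (hInv 0) (funext fun y => sPt_face_one f σ hσ y) _ x
  have h_a : ∀ y, h₀ (aG M f y) = y := fun y => by
    rw [ha]
    refine (transfer_transfer _ _ _ _ _ _ y).trans ?_
    refine (transfer_congr hTop (s' := id) (funext fun v => hom_sPt₀ f σ hσ v) _ y).trans ?_
    exact transfer_id _ _ y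
  exact ⟨Function.LeftInverse.injective h_a,
    fun x hx => ⟨_, exact_zero (E := fun p => (Γg M (N f p) : Type u)) (δG M f) h (aG M f) h₀
      h_zero h_one x hx⟩,
    fun p x hx => ⟨_, exact_succ (E := fun p => (Γg M (N f p) : Type u)) (δG M f) h h_zero h_succ
      p x hx⟩⟩

/-- A continuous section makes the rows exact. -/
theorem rowExact_of_section (s : S ⟶ X) (hs : s ≫ f = 𝟙 S) : RowExact M f := by
  let c : ∀ p, Fin (p + 2) → ((N f p).left ⟶ X) := fun p => Fin.cons ((N f p).hom ≫ s) (proj f p)
  have hc : ∀ p i, c p i ≫ f = (N f p).hom := fun p i => by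
    induction i using Fin.cases with
    | zero => simp [c, hs]
    | succ i => simp only [c, Fin.cons_succ]; exact proj_comp f p i
  let sM : ∀ p, N f p ⟶ N f (p + 1) := fun p => liftHom f (c p) (hc p)
  let s₀ : top S ⟶ N f 0 := liftHom f (fun _ => s) fun _ => hs
  let h : ∀ p, (Γg M (N f (p + 1)) : Type u) →+ (Γg M (N f p) : Type u) := fun p =>
    ((gdΦ M (sM p)).app (op ⊤)).hom
  let h₀ : (Γg M (N f 0) : Type u) →+ (Γg M (top S) : Type u) := ((gdΦ M s₀).app (op ⊤)).hom
  have h_zero : ∀ p x, h p (δG M f p 0 x) = x := fun p x => by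
    have e : sM p ≫ face f p 0 = 𝟙 _ := by
      refine Nerve.hom_ext f fun i => ?_
      simp [sM, face, liftHom_proj, Category.assoc, c]
    refine (gd_comp M (sM p) (face f p 0) x).trans ?_
    exact (gd_congr M e x).trans (gd_id M x)
  have h_succ : ∀ p i x, h (p + 1) (δG M f (p + 1) i.succ x) = δG M f p i (h p x) := fun p i x => by
    have e : sM (p + 1) ≫ face f (p + 1) i.succ = face f p i ≫ sM p := by
      refine Nerve.hom_ext f fun j => ?_
      induction j using Fin.cases with
      | zero =>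
        simp [sM, face, liftHom_proj, Category.assoc, c, Fin.succ_succAbove_zero]
        exact ((reassoc_of% (Over.w (liftHom f (fun j => proj f (p + 1) (i.succAbove j))
          (fun j => proj_comp f _ _)))) s).symm
      | succ j => simp [sM, face, liftHom_proj, Category.assoc, c, Fin.succ_succAbove_succ]
    refine (gd_comp M (sM (p + 1)) (face f (p + 1) i.succ) x).trans ?_
    exact (gd_congr M e x).trans (gd_comp M (face f p i) (sM p) x).symm
  have h_one : ∀ x, h 0 (δG M f 0 1 x) = aG M f (h₀ x) := fun x => by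
    have e : sM 0 ≫ face f 0 1 = toTop (N f 0) ≫ s₀ := by
      refine Nerve.hom_ext f fun i => ?_
      obtain rfl : i = 0 := Fin.ext (by omega)
      simp [sM, s₀, face, liftHom_proj, Category.assoc, c]
    refine (gd_comp M (sM 0) (face f 0 1) x).trans ?_
    exact (gd_congr M e x).trans (gd_comp M (toTop (N f 0)) s₀ x).symm
  have h_a : ∀ y, h₀ (aG M f y) = y := fun y => by
    refine (gd_comp M s₀ (toTop (N f 0)) y).trans ?_
    have e : s₀ ≫ toTop (N f 0) = 𝟙 (top S) := Over.OverMorphism.ext (Over.w s₀)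
    exact (gd_congr M e y).trans (gd_id M y)
  exact ⟨Function.LeftInverse.injective h_a,
    fun x hx => ⟨_, exact_zero (E := fun p => (Γg M (N f p) : Type u)) (δG M f) h (aG M f) h₀
      h_zero h_one x hx⟩,
    fun p x hx => ⟨_, exact_succ (E := fun p => (Γg M (N f p) : Type u)) (δG M f) h h_zero h_succ
      p x hx⟩⟩

end Cech

end Groth.Agent.CohTop.Descent.Rows
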