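import Groth.Agent.CohTop.Descent.TotExact
import Groth.Agent.CohTop.Descent.Compute
import Groth.Agent.CohTop.Descent.Rows
import Mathlib.AlgebraicTopology.AlternatingFaceMapComplex

/-!
# The descent spectral sequence of a map with exact rows
-/

universe u

open CategoryTheory CategoryTheory.Limits Opposite TopologicalSpace Simplicial

namespace Groth.Agent.CohTop.Descent.Main

open Groth.Agent.CohTop.Descent.Fam Groth.Agent.CohTop.Descent.Base Groth.Agent.CohTop.Descent.Nerve
  Groth.Agent.CohTop.Descent.Rows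

variable {X S : TopCat.{u}} (f : X ⟶ S) (F : CohTop.Ab S)

/-- The double complex. -/
noncomputable def dbl (M : Fam S) : CochainComplex (CochainComplex AddCommGrpCat.{u} ℕ) ℕ :=
  AlgebraicTopology.AlternatingCofaceMapComplex.obj ((nerve f).rightOp ⋙ cx M)

/-- The augmentation of the double complex. -/
noncomputable def augm (M : Fam S) : (cx M).obj (op (top S)) ⟶ (dbl f M).X 0 :=
  (cx M).map (toTop (N f 0)).op

theorem dbl_d_apply (M : Fam S) (p q : ℕ) (x : (Γg (iter M q) (N f p) : Type u)) :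
    ((dbl f M).d p (p + 1)).f q x =
      dd (E := fun p => (Γg (iter M q) (N f p) : Type u)) (δG (iter M q) f) p x := by
  rw [dd_apply]
  have : ((dbl f M).d p (p + 1)).f q =
      ∑ i : Fin (p + 2), (-1 : ℤ) ^ (i : ℕ) • ((cx M).map ((nerve f).δ i).op).f q := by
    let Y : CosimplicialObject (CochainComplex AddCommGrpCat.{u} ℕ) := (nerve f).rightOp ⋙ cx M
    refine (congrArg (fun φ : Y.obj ⦋p⦌ ⟶ Y.obj ⦋p + 1⦌ => φ.f q) (CochainComplex.of_d
      (fun n => Y.obj ⦋n⦌) (AlgebraicTopology.AlternatingCofaceMapComplex.objD Y) p)).trans ?_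
    exact (map_sum (HomologicalComplex.Hom.fAddMonoidHom
      (C₁ := (cx M).obj (op (N f p))) (C₂ := (cx M).obj (op (N f (p + 1)))) q) _ _).trans
        (Finset.sum_congr rfl fun i _ => map_zsmul (HomologicalComplex.Hom.fAddMonoidHom
          (C₁ := (cx M).obj (op (N f p))) (C₂ := (cx M).obj (op (N f (p + 1)))) q) _ _)
  rw [this]
  exact map_sum (AddMonoidHom.mk' (fun g : ((dbl f M).X p).X q ⟶ ((dbl f M).X (p + 1)).X q => g x)
    (fun _ _ => rfl)) _ _

theorem δG_aG (M : Fam S) (i : Fin 2) (y : (Γg M (top S) : Type u)) :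
    δG M f 0 i (aG M f y) = ((gdΦ M (toTop (N f 1))).app (op ⊤)).hom y := by
  have e : face f 0 i ≫ toTop (N f 0) = toTop (N f 1) := Over.OverMorphism.ext (Over.w (face f 0 i))
  exact (gd_comp M (face f 0 i) (toTop (N f 0)) y).trans (gd_congr M e y)

/-- The alternating sum vanishes on the augmentation. -/
theorem dd_aG (M : Fam S) (y : (Γg M (top S) : Type u)) :
    dd (E := fun p => (Γg M (N f p) : Type u)) (δG M f) 0 (aG M f y) = 0 := by
  rw [dd_apply, Fin.sum_univ_two, δG_aG, δG_aG]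
  simp

/-- The descent spectral sequence. -/
theorem exists_ss (hrow : ∀ q, RowExact (iter (base F) q) f) :
    ∃ (E : CohomologicalSpectralSequence AddCommGrpCat.{u} 1)
      (a : SpSeq.Abutment E (fun n : ℤ =>
        if 0 ≤ n then AddCommGrpCat.of (CohTop.H F n.toNat) else AddCommGrpCat.of PUnit.{u + 1})),
      (∀ n, a.IsFinite n) ∧ SpSeq.IsBounded E ∧
      ∀ p q : ℤ, Nonempty ((E.page 1 le_rfl).X (p, q) ≅
        (if 0 ≤ p ∧ 0 ≤ q then
          AddCommGrpCat.of (CohTop.H ((CohTop.pull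
            (WidePullback.base (fun _ : Fin (p.toNat + 1) => f) :
              widePullback S (fun _ : Fin (p.toNat + 1) => X) (fun _ => f) ⟶ S)).obj F) q.toNat)
         else AddCommGrpCat.of PUnit.{u + 1})) := by
  let K := dbl f (base F)
  have ha : ∀ q y, (K.d 0 1).f q ((augm f (base F)).f q y) = 0 := fun q y =>
    (dbl_d_apply f (base F) 0 q (aG (iter (base F) q) f y)).trans (dd_aG f (iter (base F) q) y)
  have htot : ∀ n : ℤ, Nonempty ((TotCx.tot K).homology n ≅
      if 0 ≤ n then AddCommGrpCat.of (CohTop.H F n.toNat) else AddCommGrpCat.of PUnit.{u + 1}) := by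
    intro n
    by_cases hn : 0 ≤ n
    · obtain ⟨k, rfl⟩ := Int.eq_ofNat_of_zero_le hn
      obtain ⟨e₁⟩ := TotExact.nonempty_homology_iso (K := K)
        (fun p q z hz => by
          obtain ⟨w, hw⟩ := (hrow q).2.2 p z ((dbl_d_apply f (base F) (p + 1) q z).symm.trans hz)
          exact ⟨w, (dbl_d_apply f (base F) p q w).trans hw⟩)
        ((cx (base F)).obj (op (top S))) (augm f (base F)) ha (fun q => (hrow q).1)
        (fun q z hz => (hrow q).2.1 z ((dbl_d_apply f (base F) 0 q z).symm.trans hz)) k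
      obtain ⟨e₂⟩ := Compute.homology_cx_iso F (top S) k
      have hk : (k : ℤ).toNat = k := Int.toNat_natCast k
      let pId : CohTop.pull (𝟙 S) ≅ 𝟭 _ :=
        Adjunction.leftAdjointUniq (TopCat.Sheaf.pullbackPushforwardAdjunction AddCommGrpCat.{u} (𝟙 S))
          (Adjunction.id.ofNatIsoRight (NatIso.ofComponents (fun G => Iso.refl G)))
      exact ⟨e₁ ≪≫ e₂ ≪≫ (Abelian.extFunctorObj _ k).mapIso (pId.app F) ≪≫
        eqToIso (by rw [if_pos hn, hk]; rfl)⟩
    · rw [if_neg hn]
      exact ⟨(TotExact.isZero_homology_of_neg (by omega)).iso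
        (AddCommGrpCat.isZero_of_subsingleton _)⟩
  obtain ⟨a, ha'⟩ := TotCx.exists_abutment K _ fun n => (htot n).some
  refine ⟨TotCx.ss K, a, ha', TotCx.isBounded_ss K, fun p q => ?_⟩
  by_cases hpq : 0 ≤ p ∧ 0 ≤ q
  · rw [if_pos hpq]
    obtain ⟨p, rfl⟩ := Int.eq_ofNat_of_zero_le hpq.1
    obtain ⟨q, rfl⟩ := Int.eq_ofNat_of_zero_le hpq.2
    obtain ⟨e₁⟩ := TotCx.nonempty_page_one_iso K p q
    obtain ⟨e₂⟩ := Compute.homology_cx_iso F (N f p) q
    exact ⟨e₁ ≪≫ e₂⟩
  · rw [if_neg hpq]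
    exact ⟨(TotCx.isZero_page_one K p q hpq).iso (AddCommGrpCat.isZero_of_subsingleton _)⟩

end Groth.Agent.CohTop.Descent.Main
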