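import Groth.Agent.CohTop.Descent.FilSS
import Mathlib.CategoryTheory.Limits.Shapes.FiniteProducts
import Mathlib.Data.Fintype.Sigma
import Mathlib.Data.Finset.NatAntidiagonal

/-!
# The total complex of a first quadrant double complex, filtered by columns

`ss_page_one` : the first page consists of the cohomology of the columns.
-/

namespace Groth.Agent.CohTop.Descent.TotCx

open CategoryTheory CategoryTheory.Limits SpSeq Groth.Agent.SpSeqLib

universe v u

/-- The bidegrees of total degree `n`. -/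
abbrev Idx (n : ℤ) : Type := {pq : ℕ × ℕ // (pq.1 : ℤ) + (pq.2 : ℤ) = n}

instance (n : ℤ) : Finite (Idx n) :=
  Finite.of_injective (fun i : Idx n =>
    ((⟨i.1.1, by have := i.2; omega⟩, ⟨i.1.2, by have := i.2; omega⟩) :
      Fin (n.toNat + 1) × Fin (n.toNat + 1)))
    fun i j h => by
      simp only [Prod.mk.injEq, Fin.mk.injEq] at h
      exact Subtype.ext (Prod.ext h.1 h.2)

variable {C : Type u} [Category.{v} C] [Abelian C] (K : CochainComplex (CochainComplex C ℕ) ℕ)

/-- The terms of the total complex. -/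
noncomputable abbrev X (n : ℤ) : C := ∏ᶜ fun i : Idx n => (K.X i.1.1).X i.1.2

/-- The component `(p, q)`. -/
noncomputable def π (n : ℤ) (p q : ℕ) (h : (p : ℤ) + q = n) : X K n ⟶ (K.X p).X q :=
  Pi.π (fun i : Idx n => (K.X i.1.1).X i.1.2) ⟨(p, q), h⟩

theorem hom_ext {n : ℤ} {W : C} {x y : W ⟶ X K n}
    (h : ∀ p q hpq, x ≫ π K n p q hpq = y ≫ π K n p q hpq) : x = y :=
  Pi.hom_ext _ _ fun i => h i.1.1 i.1.2 i.2

/-- The inclusion of the component `(p, q)`. -/
noncomputable def ι (n : ℤ) (p q : ℕ) (_h : (p : ℤ) + q = n) : (K.X p).X q ⟶ X K n :=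
  Pi.lift fun i => if e : i.1 = (p, q) then
    eqToHom (by rw [e] : (K.X p).X q = (K.X i.1.1).X i.1.2) else 0

@[simp]
theorem ι_π (n : ℤ) (p q : ℕ) (h : (p : ℤ) + q = n) : ι K n p q h ≫ π K n p q h = 𝟙 _ := by
  simp [ι, π, Pi.lift_π]

theorem ι_π_ne (n : ℤ) (p q : ℕ) (h : (p : ℤ) + q = n) (p' q' : ℕ) (h' : (p' : ℤ) + q' = n)
    (hne : p' ≠ p) : ι K n p q h ≫ π K n p' q' h' = 0 := by
  simp [ι, π, Pi.lift_π, hne]

/-- The horizontal part of the differential. -/
noncomputable def dh (n n' : ℤ) (hn : n + 1 = n') : X K n ⟶ X K n' :=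
  Pi.lift fun i => match i with
    | ⟨(0, _), _⟩ => 0
    | ⟨(p + 1, q), h⟩ => π K n p q (by simp at h ⊢; omega) ≫ (K.d p (p + 1)).f q

/-- The vertical part of the differential. -/
noncomputable def dv (n n' : ℤ) (hn : n + 1 = n') : X K n ⟶ X K n' :=
  Pi.lift fun i => match i with
    | ⟨(_, 0), _⟩ => 0
    | ⟨(p, q + 1), h⟩ => ((-1 : ℤ) ^ p) • (π K n p q (by simp at h ⊢; omega) ≫ (K.X p).d q (q + 1))

variable {K} {n n' : ℤ} (hn : n + 1 = n')

theorem dh_π_zero (q : ℕ) (h : ((0 : ℕ) : ℤ) + q = n') : dh K n n' hn ≫ π K n' 0 q h = 0 :=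
  Pi.lift_π _ _

theorem dh_π_succ (p q : ℕ) (h : ((p + 1 : ℕ) : ℤ) + q = n') :
    dh K n n' hn ≫ π K n' (p + 1) q h = π K n p q (by omega) ≫ (K.d p (p + 1)).f q :=
  Pi.lift_π _ _

theorem dv_π_zero (p : ℕ) (h : (p : ℤ) + (0 : ℕ) = n') : dv K n n' hn ≫ π K n' p 0 h = 0 :=
  Pi.lift_π _ _

theorem dv_π_succ (p q : ℕ) (h : (p : ℤ) + (q + 1 : ℕ) = n') :
    dv K n n' hn ≫ π K n' p (q + 1) h =
      ((-1 : ℤ) ^ p) • (π K n p q (by omega) ≫ (K.X p).d q (q + 1)) :=
  Pi.lift_π _ _

/-- The differential. -/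
noncomputable def d (n n' : ℤ) (hn : n + 1 = n') : X K n ⟶ X K n' := dh K n n' hn + dv K n n' hn

theorem d_comp_d {n'' : ℤ} (hn' : n' + 1 = n'') : d (K := K) n n' hn ≫ d n' n'' hn' = 0 := by
  refine hom_ext K fun p q h => ?_
  simp only [d, zero_comp, Category.assoc, Preadditive.comp_add, Preadditive.add_comp]
  rcases p with _ | p <;> rcases q with _ | q
  · simp [dh_π_zero, dv_π_zero]
  · simp only [dh_π_zero, dv_π_succ, comp_zero, zero_add, Preadditive.comp_zsmul]
    rcases q with _ | q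
    · simp [reassoc_of% dh_π_zero, reassoc_of% dv_π_zero]
    · simp [reassoc_of% dh_π_zero, reassoc_of% dv_π_succ]
  · simp only [dh_π_succ, dv_π_zero, comp_zero, add_zero]
    rcases p with _ | p
    · simp [reassoc_of% dh_π_zero, reassoc_of% dv_π_zero]
    · have h0 : (K.d p (p + 1)).f 0 ≫ (K.d (p + 1) (p + 1 + 1)).f 0 = 0 := by
        rw [← HomologicalComplex.comp_f, K.d_comp_d, HomologicalComplex.zero_f]
      simp [reassoc_of% dh_π_succ, reassoc_of% dv_π_zero, h0]
  · simp only [dh_π_succ, dv_π_succ, Preadditive.comp_zsmul]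
    have hcomm : (K.d p (p + 1)).f q ≫ (K.X (p + 1)).d q (q + 1) =
        (K.X p).d q (q + 1) ≫ (K.d p (p + 1)).f (q + 1) := (K.d p (p + 1)).comm q (q + 1)
    rcases p with _ | p <;> rcases q with _ | q
    · simp [reassoc_of% dh_π_zero, reassoc_of% dv_π_zero, reassoc_of% dh_π_succ,
        reassoc_of% dv_π_succ, hcomm]
    · simp [reassoc_of% dh_π_zero, reassoc_of% dv_π_zero, reassoc_of% dh_π_succ,
        reassoc_of% dv_π_succ, hcomm]
    · have h0 : (K.d p (p + 1)).f 1 ≫ (K.d (p + 1) (p + 1 + 1)).f 1 = 0 := by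
        rw [← HomologicalComplex.comp_f, K.d_comp_d, HomologicalComplex.zero_f]
      simp [reassoc_of% dh_π_zero, reassoc_of% dv_π_zero, reassoc_of% dh_π_succ,
        reassoc_of% dv_π_succ, hcomm, h0, pow_succ, Preadditive.neg_comp, Preadditive.zsmul_comp]
    · have h0 : (K.d p (p + 1)).f (q + 1 + 1) ≫ (K.d (p + 1) (p + 1 + 1)).f (q + 1 + 1) = 0 := by
        rw [← HomologicalComplex.comp_f, K.d_comp_d, HomologicalComplex.zero_f]
      simp [reassoc_of% dh_π_zero, reassoc_of% dv_π_zero, reassoc_of% dh_π_succ,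
        reassoc_of% dv_π_succ, hcomm, h0, pow_succ, Preadditive.neg_comp, Preadditive.zsmul_comp]

variable (K)

/-- The total complex. -/
noncomputable abbrev tot : CochainComplex C ℤ :=
  CochainComplex.of (X K) (fun n => d n (n + 1) rfl) fun _ => d_comp_d rfl rfl

variable {K}

theorem tot_d_eq (n n' : ℤ) (hn : n + 1 = n') : (tot K).d n n' = d n n' hn := by
  subst hn
  exact CochainComplex.of_d (X K) (fun n => d n (n + 1) rfl) n

theorem d_π_zero_zero (h : ((0 : ℕ) : ℤ) + (0 : ℕ) = n') : d n n' hn ≫ π K n' 0 0 h = 0 := by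
  rw [d, Preadditive.add_comp, dh_π_zero, dv_π_zero, add_zero]

theorem d_π_zero_succ (q : ℕ) (h : ((0 : ℕ) : ℤ) + (q + 1 : ℕ) = n') :
    d n n' hn ≫ π K n' 0 (q + 1) h = π K n 0 q (by omega) ≫ (K.X 0).d q (q + 1) := by
  rw [d, Preadditive.add_comp, dh_π_zero, dv_π_succ, pow_zero, one_smul, zero_add]

theorem d_π_succ_zero (p : ℕ) (h : ((p + 1 : ℕ) : ℤ) + (0 : ℕ) = n') :
    d n n' hn ≫ π K n' (p + 1) 0 h = π K n p 0 (by omega) ≫ (K.d p (p + 1)).f 0 := by
  rw [d, Preadditive.add_comp, dh_π_succ, dv_π_zero, add_zero]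

theorem d_π_succ_succ (p q : ℕ) (h : ((p + 1 : ℕ) : ℤ) + (q + 1 : ℕ) = n') :
    d n n' hn ≫ π K n' (p + 1) (q + 1) h = π K n p (q + 1) (by omega) ≫ (K.d p (p + 1)).f (q + 1) +
      ((-1 : ℤ) ^ (p + 1)) • (π K n (p + 1) q (by omega) ≫ (K.X (p + 1)).d q (q + 1)) := by
  rw [d, Preadditive.add_comp, dh_π_succ, dv_π_succ]

/-- The components of degree `< k` vanish. -/
def Low (k : ℤ) {W : C} (x : W ⟶ X K n) : Prop :=
  ∀ (p q : ℕ) (h : (p : ℤ) + q = n), (p : ℤ) < k → x ≫ π K n p q h = 0

theorem Low.mono {k l : ℤ} (hkl : k ≤ l) {W : C} {x : W ⟶ X K n} (hx : Low l x) : Low k x :=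
  fun p q h hp => hx p q h (lt_of_lt_of_le hp hkl)

theorem Low.d {k : ℤ} {W : C} {x : W ⟶ X K n} (hx : Low k x) : Low k (x ≫ TotCx.d n n' hn) := by
  intro p q h hp
  rw [Category.assoc, TotCx.d, Preadditive.add_comp, Preadditive.comp_add]
  have h1 : x ≫ dh K n n' hn ≫ π K n' p q h = 0 := by
    rcases p with _ | p
    · simp [dh_π_zero]
    · rw [dh_π_succ, ← Category.assoc, hx p q (by omega) (by omega), zero_comp]
  have h2 : x ≫ dv K n n' hn ≫ π K n' p q h = 0 := by
    rcases q with _ | q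
    · simp [dv_π_zero]
    · rw [dv_π_succ, Preadditive.comp_zsmul, ← Category.assoc, hx p q (by omega) hp, zero_comp,
        smul_zero]
  rw [h1, h2, add_zero]

variable (K)

/-- The projection to the components of degree `< k`. -/
noncomputable def projLow (k n : ℤ) :
    X K n ⟶ ∏ᶜ fun i : {i : Idx n // (i.1.1 : ℤ) < k} => (K.X i.1.1.1).X i.1.1.2 :=
  Pi.lift fun i => π K n i.1.1.1 i.1.1.2 i.1.2

theorem comp_projLow_eq_zero_iff (k : ℤ) {W : C} (x : W ⟶ X K n) :
    x ≫ projLow K k n = 0 ↔ Low k x := by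
  constructor
  · intro hx p q h hp
    have := hx =≫ Pi.π _ (⟨⟨(p, q), h⟩, hp⟩ : {i : Idx n // (i.1.1 : ℤ) < k})
    simpa [projLow] using this
  · intro hx
    refine Pi.hom_ext _ _ fun i => ?_
    simpa [projLow] using hx i.1.1.1 i.1.1.2 i.1.2 i.2

/-- The step `k` of the column filtration. -/
noncomputable abbrev sub (k : ℤ) : CochainComplex C ℤ :=
  CochainComplex.of (fun n => kernel (projLow K k n))
    (fun n => kernel.lift _ (kernel.ι (projLow K k n) ≫ d n (n + 1) rfl)
      ((comp_projLow_eq_zero_iff K k _).2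
        (Low.d rfl ((comp_projLow_eq_zero_iff K k _).1 (kernel.condition _)))))
    fun n => by
      rw [← cancel_mono (kernel.ι _), Category.assoc, kernel.lift_ι, kernel.lift_ι_assoc,
        Category.assoc, d_comp_d, comp_zero, zero_comp]

/-- The inclusion of the step `k`. -/
noncomputable abbrev subι (k : ℤ) : sub K k ⟶ tot K where
  f n := kernel.ι (projLow K k n)
  comm' i j h := by
    obtain rfl : i + 1 = j := h
    simp only [sub, tot, CochainComplex.of_d]
    exact (kernel.lift_ι _ _ _).symm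

instance (k : ℤ) : Mono (subι K k) :=
  have : ∀ n, Mono ((subι K k).f n) := fun n => inferInstanceAs (Mono (kernel.ι (projLow K k n)))
  HomologicalComplex.mono_of_mono_f _ this

/-- The inclusion of a smaller step. -/
noncomputable def subLE {k l : ℤ} (h : k ≤ l) : sub K l ⟶ sub K k where
  f n := kernel.lift _ (kernel.ι (projLow K l n))
    ((comp_projLow_eq_zero_iff K k _).2
      (Low.mono h ((comp_projLow_eq_zero_iff K l _).1 (kernel.condition _))))
  comm' i j h := by
    obtain rfl : i + 1 = j := h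
    simp only [CochainComplex.of_d]
    apply (cancel_mono (kernel.ι (projLow K k (i + 1)))).1
    simp only [Category.assoc, kernel.lift_ι, kernel.lift_ι_assoc]

/-- The total complex filtered by columns. -/
noncomputable abbrev filCx : FilCx C where
  obj := tot K
  fil k := Subobject.mk (subι K k)
  anti k l h := Subobject.mk_le_mk_of_comm (subLE K h) (by
    ext n
    simp [subLE])

theorem filX_factors_iff (k n : ℤ) {W : C} (x : W ⟶ X K n) :
    ((filCx K).filX k n).Factors x ↔ Low k x := by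
  refine (SpSeqLib.filX_factors_iff (filCx K) k n x).trans ?_
  change (∃ s : W ⟶ (Subobject.mk (subι K k) : CochainComplex C ℤ).X n,
    s ≫ (Subobject.mk (subι K k)).arrow.f n = x) ↔ _
  have hi : (Subobject.underlyingIso (subι K k)).inv.f n ≫ (Subobject.mk (subι K k)).arrow.f n =
      kernel.ι (projLow K k n) := by
    rw [← HomologicalComplex.comp_f, Subobject.underlyingIso_arrow]
  have hj : (Subobject.underlyingIso (subι K k)).hom.f n ≫ kernel.ι (projLow K k n) =
      (Subobject.mk (subι K k)).arrow.f n := by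
    rw [← Subobject.underlyingIso_hom_comp_eq_mk (subι K k)]; rfl
  rw [← comp_projLow_eq_zero_iff]
  constructor
  · rintro ⟨s, rfl⟩
    rw [← hj, Category.assoc, Category.assoc, kernel.condition, comp_zero, comp_zero]
  · intro hx
    exact ⟨kernel.lift _ x hx ≫ (Subobject.underlyingIso (subι K k)).inv.f n,
      by rw [Category.assoc, hi, kernel.lift_ι]⟩

theorem filX_eq_top (k n : ℤ) (hk : k ≤ 0) : (filCx K).filX k n = ⊤ :=
  top_le_iff.1 (SubElem.le_iff.2 fun W x _ =>
    (filX_factors_iff K k n x).2 fun p q _ hp => absurd hp (by omega))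

theorem filX_eq_bot (k n : ℤ) (hk : n < k) : (filCx K).filX k n = ⊥ :=
  le_bot_iff.1 (SubElem.le_iff.2 fun W x hx => (SubElem.bot_factors_iff x).2 <| hom_ext K
    fun p q h => by refine Eq.trans ?_ zero_comp.symm; exact (filX_factors_iff K k n x).1 hx p q h (by omega))

theorem isFinite (n : ℤ) : ((filCx K).XFil n).IsFinite :=
  ⟨⟨0, filX_eq_top K 0 n le_rfl⟩, n + 1, filX_eq_bot K _ n (by omega)⟩

theorem isZero_E_of_neg (p n : ℤ) (hp : p < 0) : IsZero ((filCx K).E 1 p n) :=
  (subquot_isZero_iff _ _ _).2 (le_antisymm ((filCx K).BSub_le_ZSub 1 p n)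
    (le_top.trans ((filX_eq_top K (p + 1) n (by omega)).ge.trans
      (filX_succ_le_BSub (filCx K) 1 p n))))

theorem isZero_E_of_lt (p n : ℤ) (hp : n < p) : IsZero ((filCx K).E 1 p n) :=
  (subquot_isZero_iff _ _ _).2 (le_antisymm ((filCx K).BSub_le_ZSub 1 p n)
    (sup_le ((inf_le_left.trans (filX_eq_bot K p n hp).le).trans bot_le) le_sup_right))

/-- The spectral sequence. -/
noncomputable def ss : CohomologicalSpectralSequence C 1 := FilSS.ss (filCx K)

theorem isZero_page_one (p q : ℤ) (h : ¬ (0 ≤ p ∧ 0 ≤ q)) :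
    IsZero (((ss K).page 1 le_rfl).X (p, q)) := by
  by_cases hp : p < 0
  · exact isZero_E_of_neg K p (p + q) hp
  · exact isZero_E_of_lt K p (p + q) (by omega)

theorem isBounded_ss : SpSeq.IsBounded (ss K) := fun n =>
  Set.Finite.subset (Set.finite_Icc 0 n) fun p hp => by
    by_contra hcon
    exact hp (isZero_page_one K p (n - p) (by simp only [Set.mem_Icc] at hcon; omega))

theorem low_d_π_zero {p : ℕ} {W : C} {w : W ⟶ X K n} (hw : Low (p : ℤ) w) (h : (p : ℤ) + (0 : ℕ) = n') : (w ≫ d n n' hn) ≫ π K n' p 0 h = 0 := by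
  rw [Category.assoc]
  rcases p with _ | p
  · rw [d_π_zero_zero, comp_zero]
  · rw [d_π_succ_zero, ← Category.assoc, hw p 0 (by omega) (by omega), zero_comp]

theorem low_d_π_succ {p q : ℕ} {W : C} {w : W ⟶ X K n} (hw : Low (p : ℤ) w)
    (h : (p : ℤ) + (q + 1 : ℕ) = n') :
    (w ≫ d n n' hn) ≫ π K n' p (q + 1) h =
      ((-1 : ℤ) ^ p) • (w ≫ π K n p q (by omega) ≫ (K.X p).d q (q + 1)) := by
  rw [Category.assoc]
  rcases p with _ | p
  · rw [d_π_zero_succ, pow_zero, one_smul]
  · rw [d_π_succ_succ, Preadditive.comp_add, ← Category.assoc,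
      hw p (q + 1) (by omega) (by omega), zero_comp, zero_add, Preadditive.comp_zsmul]

section PageOne

variable {p q : ℕ} (hpq : (p : ℤ) + q = n)

/-- The restriction to the component `(p, q)` of `F^p ∩ d⁻¹ F^{p+1}`. -/
noncomputable def top : (U (filCx K) ((p : ℤ) + (1 : ℕ)) p n : C) ⟶ (K.X p).X q :=
  (U (filCx K) ((p : ℤ) + (1 : ℕ)) p n).arrow ≫ π K n p q hpq

theorem low_arrow : Low (n := n) (p : ℤ) ((U (filCx K) ((p : ℤ) + (1 : ℕ)) p n).arrow) :=
  (filX_factors_iff K _ _ _).1 ((U_factors_iff (filCx K) _ _ _ _).1 (SubElem.factors_arrow _)).1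

theorem top_d : top K hpq ≫ (K.X p).d q (q + 1) = 0 := by
  have h1 : Low (n := n + 1) ((p : ℤ) + (1 : ℕ))
      ((U (filCx K) ((p : ℤ) + (1 : ℕ)) p n).arrow ≫ d n (n + 1) rfl) := by
    rw [← tot_d_eq]
    exact (filX_factors_iff K _ _ _).1
      ((U_factors_iff (filCx K) _ _ _ _).1 (SubElem.factors_arrow _)).2
  have h2 := h1 p (q + 1) (by omega) (by omega)
  rw [Category.assoc] at h2
  rcases p with _ | p
  · rw [d_π_zero_succ] at h2
    rw [top, Category.assoc]; exact h2
  · rw [d_π_succ_succ, Preadditive.comp_add, ← Category.assoc,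
      low_arrow (n := n) (p := p + 1) K p (q + 1) (by omega) (by omega), zero_comp, zero_add,
      Preadditive.comp_zsmul] at h2
    rw [top, Category.assoc]
    rcases neg_one_pow_eq_or ℤ (p + 1) with hs | hs <;> rw [hs] at h2 <;> simpa using h2

/-- The map to the cohomology of the column. -/
noncomputable def toColH : (U (filCx K) ((p : ℤ) + (1 : ℕ)) p n : C) ⟶ (K.X p).homology q :=
  (K.X p).liftCycles (top K hpq) (q + 1) (by simp) (top_d K hpq) ≫ (K.X p).homologyπ q

theorem epi_toColH : Epi (toColH K hpq) := by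
  rw [epi_iff_surjective_up_to_refinements]
  intro W γ
  obtain ⟨W', e, he, z, hz, eq⟩ :=
    HomologicalComplex.eq_liftCycles_homologyπ_up_to_refinements _ γ (q + 1) (by simp)
  have hlow : Low (p : ℤ) (z ≫ ι K n p q hpq) := fun p' q' h' hp' => by
    rw [Category.assoc, ι_π_ne K n p q hpq p' q' h' (by omega), comp_zero]
  have hU : (U (filCx K) ((p : ℤ) + (1 : ℕ)) p n).Factors (z ≫ ι K n p q hpq) := by
    refine (U_factors_iff (filCx K) _ _ _ _).2 ⟨(filX_factors_iff K _ _ _).2 hlow,
      (filX_factors_iff K _ _ _).2 ?_⟩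
    change Low _ ((z ≫ ι K n p q hpq) ≫ (tot K).d n (n + 1))
    rw [tot_d_eq n (n + 1) rfl]
    intro p' q' h' hp'
    rcases lt_or_eq_of_le (show p' ≤ p by omega) with hlt | rfl
    · exact hlow.d rfl p' q' h' (by omega)
    · obtain rfl : q' = q + 1 := by omega
      rw [Category.assoc]
      rcases p' with _ | p'
      · rw [d_π_zero_succ, Category.assoc, reassoc_of% ι_π]; exact hz
      · rw [d_π_succ_succ, Preadditive.comp_add, ← Category.assoc,
          hlow p' (q + 1) (by omega) (by omega), zero_comp, zero_add, Preadditive.comp_zsmul,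
          Category.assoc, reassoc_of% ι_π, hz, smul_zero]
  obtain ⟨u, hu⟩ := (SubElem.factors_iff_exists _).1 hU
  refine ⟨W', e, he, u, ?_⟩
  have ut : u ≫ top K hpq = z := by
    rw [top, ← Category.assoc, hu, Category.assoc, ι_π, Category.comp_id]
  rw [eq, toColH]
  simp only [HomologicalComplex.comp_liftCycles_assoc]
  congr 1
  rw [← cancel_mono ((K.X p).iCycles q)]
  simp [ut]

theorem comp_toColH_eq_zero_iff {W : C}
    (x : W ⟶ (U (filCx K) ((p : ℤ) + (1 : ℕ)) p n : C)) :
    x ≫ toColH K hpq = 0 ↔ x ≫ toE (filCx K) 1 p n = 0 := by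
  set y : W ⟶ X K n := x ≫ (U (filCx K) ((p : ℤ) + (1 : ℕ)) p n).arrow with hy
  rw [comp_toE_eq_zero_iff, BSub_factors_iff (filCx K) 1 p n (n - 1) p (by omega) (by omega), ← hy]
  have hylow : Low (p : ℤ) y := fun p' q' h' hp' => by
    rw [hy, Category.assoc, low_arrow (n := n) (p := p) K p' q' h' hp', comp_zero]
  have hyπ : x ≫ top K hpq = y ≫ π K n p q hpq := (Category.assoc _ _ _).symm
  simp only [toColH, HomologicalComplex.comp_liftCycles_assoc]
  have hz : ∀ {V : C} (t : V ⟶ (K.X p).X q) (ht : t ≫ (K.X p).d q (q + 1) = 0), t = 0 →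
      (K.X p).liftCycles t (q + 1) (by simp) ht = 0 := fun t ht h0 => by
    rw [← cancel_mono ((K.X p).iCycles q), HomologicalComplex.liftCycles_i, zero_comp, h0]
  rcases q with _ | q
  · constructor
    · intro h0
      have := (K.X p).isIso_homologyπ 0 0 (by simp) (by simp)
      rw [← zero_comp (f := (K.X p).homologyπ 0), cancel_mono] at h0
      have h1 := h0 =≫ (K.X p).iCycles 0
      rw [HomologicalComplex.liftCycles_i, zero_comp, hyπ] at h1
      refine ⟨W, 𝟙 _, inferInstance, 0, y, Subobject.factors_zero, ?_, ?_, ?_⟩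
      · rw [zero_comp]; exact Subobject.factors_zero
      · refine (filX_factors_iff K _ _ _).2 fun p' q' h' hp' => ?_
        rcases lt_or_eq_of_le (show p' ≤ p by omega) with hlt | rfl
        · exact hylow p' q' h' (by omega)
        · obtain rfl : q' = 0 := by omega
          exact h1
      · rw [Category.id_comp, zero_comp, zero_add]
    · rintro ⟨W', e, he, w, b, hw, -, hb, eq⟩
      rw [filX_factors_iff] at hw hb
      change e ≫ y = w ≫ (tot K).d (n - 1) n + b at eq
      rw [tot_d_eq (n - 1) n (by omega)] at eq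
      have h1 := eq =≫ π K n p 0 hpq
      rw [Preadditive.add_comp, hb p 0 hpq (by omega), add_zero,
        low_d_π_zero K (by omega : (n - 1) + 1 = n) hw hpq, Category.assoc, ← hyπ] at h1
      rw [hz _ _ ((cancel_epi e).1 (h1.trans comp_zero.symm)), zero_comp]
  · rw [← zero_comp (X := W) (f := (K.X p).homologyπ (q + 1)),
      ← hz (0 : W ⟶ (K.X p).X (q + 1)) zero_comp rfl,
      HomologicalComplex.liftCycles_comp_homologyπ_eq_iff_up_to_refinements (K.X p) q (q + 1)
        (q + 1 + 1) (by simp) (by simp)]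
    constructor
    · rintro ⟨W', e, he, c, hc⟩
      rw [comp_zero, zero_add] at hc
      let w : W' ⟶ X K (n - 1) := ((-1 : ℤ) ^ p) • (c ≫ ι K (n - 1) p q (by omega))
      have hw : Low (p : ℤ) w := fun p' q' h' hp' => by
        show ((((-1 : ℤ) ^ p) • (c ≫ ι K (n - 1) p q (by omega))) ≫ π K (n - 1) p' q' h') = 0
        rw [Preadditive.zsmul_comp, Category.assoc,
          ι_π_ne K (n - 1) p q (by omega) p' q' h' (show p' ≠ p by omega), comp_zero, smul_zero]
      refine ⟨W', e, he, w, e ≫ y - w ≫ (filCx K).obj.d (n - 1) n, (filX_factors_iff K _ _ _).2 hw,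
        ?_, ?_, by simp⟩
      · refine (filX_factors_iff K _ _ _).2 ?_
        change Low _ (w ≫ (tot K).d (n - 1) n)
        rw [tot_d_eq (n - 1) n (by omega)]
        exact Low.d _ hw
      · refine (filX_factors_iff K _ _ _).2 ?_
        change Low _ (e ≫ y - w ≫ (tot K).d (n - 1) n)
        rw [tot_d_eq (n - 1) n (by omega)]
        intro p' q' h' hp'
        rw [Preadditive.sub_comp]
        rcases lt_or_eq_of_le (show p' ≤ p by omega) with hlt | rfl
        · rw [Category.assoc, hylow p' q' h' (by omega), comp_zero, zero_sub, neg_eq_zero]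
          exact Low.d _ hw p' q' h' (by omega)
        · obtain rfl : q' = q + 1 := by omega
          rw [low_d_π_succ K (by omega : (n - 1) + 1 = n) hw h', Category.assoc, ← hyπ, sub_eq_zero,
            hc]
          simp only [w, Preadditive.zsmul_comp, Category.assoc, reassoc_of% ι_π, smul_smul, ← pow_add]
          rw [Even.neg_one_pow ⟨p', rfl⟩, one_smul]
    · rintro ⟨W', e, he, w, b, hw, -, hb, eq⟩
      rw [filX_factors_iff] at hw hb
      change e ≫ y = w ≫ (tot K).d (n - 1) n + b at eq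
      rw [tot_d_eq (n - 1) n (by omega)] at eq
      have h1 := eq =≫ π K n p (q + 1) hpq
      rw [Preadditive.add_comp, hb p _ hpq (by omega), add_zero,
        low_d_π_succ K (by omega : (n - 1) + 1 = n) hw hpq, Category.assoc, ← hyπ] at h1
      exact ⟨W', e, he, ((-1 : ℤ) ^ p) • (w ≫ π K (n - 1) p q (by omega)), by rw [h1, Preadditive.zsmul_comp, Category.assoc, comp_zero, zero_add]⟩

include hpq in
theorem nonempty_E_one_iso : Nonempty ((filCx K).E 1 p n ≅ (K.X p).homology q) := by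
  have := epi_toColH K hpq
  exact nonempty_iso_of_same_kernel (toE (filCx K) 1 p n) (toColH K hpq)
    fun x => (comp_toColH_eq_zero_iff K hpq x).symm

end PageOne

theorem nonempty_page_one_iso (p q : ℕ) :
    Nonempty (((ss K).page 1 le_rfl).X ((p : ℤ), (q : ℤ)) ≅ (K.X p).homology q) :=
  nonempty_E_one_iso K rfl

theorem exists_abutment (H : ℤ → C) (e : ∀ n, (tot K).homology n ≅ H n) :
    ∃ a : SpSeq.Abutment (ss K) H, ∀ n, a.IsFinite n :=
  FilSS.exists_abutment (filCx K) (isFinite K) H e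

end Groth.Agent.CohTop.Descent.TotCx
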