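import Groth.Agent.CohTop.Descent.TotCx
import Mathlib.Algebra.Homology.ShortComplex.Ab
import Mathlib.Algebra.Category.Grp.EpiMono
import Mathlib.Algebra.Category.Grp.Zero

/-!
# Total complexes with exact rows

A first quadrant double complex of abelian groups whose rows are exact and resolve the augmentation
`A` has the cohomology of `A`.
-/

namespace Groth.Agent.CohTop.Descent.TotExact

open CategoryTheory CategoryTheory.Limits Groth.Agent.SpSeqLib TotCx

universe u

section Generic

variable {ι' : Type*} {c : ComplexShape ι'} (L : HomologicalComplex AddCommGrpCat.{u} c)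

theorem iCycles_injective (i : ι') : Function.Injective (L.iCycles i) :=
  (AddCommGrpCat.mono_iff_injective _).1 inferInstance

theorem exists_cycles {i j : ι'} (hj : c.next i = j) (x : L.X i) (hx : L.d i j x = 0) :
    ∃ z : L.cycles i, L.iCycles i z = x := by
  let f : AddCommGrpCat.of (ULift.{u} ℤ) ⟶ L.X i :=
    AddCommGrpCat.ofHom (((zmultiplesHom _) x).comp AddEquiv.ulift.toAddMonoidHom)
  have hf : f ≫ L.d i j = 0 := by
    ext t
    show L.d i j (t.down • x) = 0
    rw [map_zsmul, hx, smul_zero]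
  refine ⟨L.liftCycles f j hj hf ⟨1⟩, ?_⟩
  rw [← ConcreteCategory.comp_apply, HomologicalComplex.liftCycles_i]
  show (1 : ℤ) • x = x
  exact one_smul _ _

theorem homologyπ_surjective (i : ι') : Function.Surjective (L.homologyπ i) :=
  (AddCommGrpCat.epi_iff_surjective _).1 inferInstance

theorem homologyπ_eq_zero_iff {h i : ι'} (hh : c.prev i = h) (z : L.cycles i) :
    L.homologyπ i z = 0 ↔ ∃ w : L.X h, L.d h i w = L.iCycles i z := by
  have hS : (ShortComplex.mk (L.toCycles h i) (L.homologyπ i) (by simp)).Exact :=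
    ShortComplex.exact_of_g_is_cokernel _ (L.homologyIsCokernel h i hh)
  constructor
  · intro hz
    obtain ⟨w, hw⟩ := (ShortComplex.ab_exact_iff _).1 hS z hz
    refine ⟨w, ?_⟩
    change L.toCycles h i w = z at hw
    rw [← hw, ← ConcreteCategory.comp_apply, HomologicalComplex.toCycles_i]
  · rintro ⟨w, hw⟩
    have : L.toCycles h i w = z := iCycles_injective L i
      (by rw [← ConcreteCategory.comp_apply, HomologicalComplex.toCycles_i, hw])
    rw [← this, ← ConcreteCategory.comp_apply, HomologicalComplex.toCycles_comp_homologyπ]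
    rfl

end Generic

variable {K : CochainComplex (CochainComplex AddCommGrpCat.{u} ℕ) ℕ} {n n' : ℤ}

variable (K) in
/-- The terms of the total complex, as groups. -/
noncomputable abbrev T (n : ℤ) : AddCommGrpCat.{u} := X K n


theorem ext_apply {x y : T K n} (h : ∀ p q hpq, π K n p q hpq x = π K n p q hpq y) : x = y :=
  Concrete.limit_ext _ x y fun ⟨⟨(p, q), hpq⟩⟩ => h p q hpq

theorem ι_π_apply (p q : ℕ) (h : (p : ℤ) + q = n) (a : (K.X p).X q) :
    π K n p q h (ι K n p q h a) = a := by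
  rw [← ConcreteCategory.comp_apply, ι_π]; rfl

theorem ι_π_ne_apply (p q : ℕ) (h : (p : ℤ) + q = n) (p' q' : ℕ) (h' : (p' : ℤ) + q' = n)
    (hne : p' ≠ p) (a : (K.X p).X q) : π K n p' q' h' (ι K n p q h a) = 0 := by
  rw [← ConcreteCategory.comp_apply, ι_π_ne K n p q h p' q' h' hne]; rfl

section
variable (hn : n + 1 = n') (x : T K n)

theorem d_apply_zero_zero (h : ((0 : ℕ) : ℤ) + (0 : ℕ) = n') :
    π K n' 0 0 h (d (K := K) n n' hn x) = 0 := by
  rw [← ConcreteCategory.comp_apply, d_π_zero_zero]; rfl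

theorem d_apply_zero_succ (q : ℕ) (h : ((0 : ℕ) : ℤ) + (q + 1 : ℕ) = n') :
    π K n' 0 (q + 1) h (d (K := K) n n' hn x) = (K.X 0).d q (q + 1) (π K n 0 q (by omega) x) := by
  rw [← ConcreteCategory.comp_apply, d_π_zero_succ]; rfl

theorem d_apply_succ_zero (p : ℕ) (h : ((p + 1 : ℕ) : ℤ) + (0 : ℕ) = n') :
    π K n' (p + 1) 0 h (d (K := K) n n' hn x) = (K.d p (p + 1)).f 0 (π K n p 0 (by omega) x) := by
  rw [← ConcreteCategory.comp_apply, d_π_succ_zero]; rfl

theorem d_apply_succ_succ (p q : ℕ) (h : ((p + 1 : ℕ) : ℤ) + (q + 1 : ℕ) = n') :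
    π K n' (p + 1) (q + 1) h (d (K := K) n n' hn x) =
      (K.d p (p + 1)).f (q + 1) (π K n p (q + 1) (by omega) x) +
      ((-1 : ℤ) ^ (p + 1)) • (K.X (p + 1)).d q (q + 1) (π K n (p + 1) q (by omega) x) := by
  rw [← ConcreteCategory.comp_apply, d_π_succ_succ]; rfl

/-- The horizontal component of `d x` when the next column of `x` vanishes. -/
theorem d_apply_of_next_zero (p q : ℕ) (h : ((p + 1 : ℕ) : ℤ) + q = n')
    (hx : ∀ q' h', π K n (p + 1) q' h' x = 0) :
    π K n' (p + 1) q h (d (K := K) n n' hn x) = (K.d p (p + 1)).f q (π K n p q (by omega) x) := by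
  rcases q with _ | q
  · exact d_apply_succ_zero hn x p h
  · rw [d_apply_succ_succ, hx q (by omega), map_zero, smul_zero, add_zero]

theorem d_apply_eq_zero_of_high {m p q : ℕ} {x : T K n}
    (hx : ∀ p q h, m < p → π K n p q h x = 0) (hp : m + 1 < p) (h : (p : ℤ) + q = n') :
    π K n' p q h (d (K := K) n n' hn x) = 0 := by
  obtain ⟨p, rfl⟩ : ∃ r, p = r + 1 := ⟨p - 1, by omega⟩
  rw [d_apply_of_next_zero hn x p q h (fun q' h' => hx _ q' h' (by omega)),
    hx p q _ (by omega), map_zero]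

end

variable (hex : ∀ (p q : ℕ) (z : (K.X (p + 1)).X q), (K.d (p + 1) (p + 1 + 1)).f q z = 0 →
  ∃ w, (K.d p (p + 1)).f q w = z)

include hex in
/-- Removing all the components of positive horizontal degree. -/
theorem reduce {m : ℕ} {n₀ n₁ n₂ : ℤ} (h₀ : n₀ + 1 = n₁) (h₁ : n₁ + 1 = n₂) (x : T K n₁)
    (hdx : ∀ p q h, π K n₂ (p + 1) q h (d (K := K) n₁ n₂ h₁ x) = 0)
    (hm : ∀ p q h, m < p → π K n₁ p q h x = 0) :
    ∃ u : T K n₀, ∀ p q h, 0 < p → π K n₁ p q h (x - d (K := K) n₀ n₁ h₀ u) = 0 := by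
  induction m generalizing x with
  | zero => exact ⟨0, fun p q h hp => by rw [map_zero, sub_zero]; exact hm p q h hp⟩
  | succ m ih =>
    by_cases hq : ((m + 1 : ℕ) : ℤ) ≤ n₁
    · have hq' : ((m + 1 : ℕ) : ℤ) + (n₁ - (m + 1)).toNat = n₁ := by omega
      set q := (n₁ - (m + 1)).toNat
      have hz : (K.d (m + 1) (m + 1 + 1)).f q (π K n₁ (m + 1) q hq' x) = 0 := by
        rw [← d_apply_of_next_zero h₁ x (m + 1) q (by omega)
          (fun q' h' => hm _ q' h' (by omega))]
        exact hdx _ _ _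
      obtain ⟨w, hw⟩ := hex m q _ hz
      set u₁ : T K n₀ := ι K n₀ m q (by omega) w with hu₁
      have hu : ∀ p' q' h', m < p' → π K n₀ p' q' h' u₁ = 0 := fun p' q' h' hp' =>
        ι_π_ne_apply m q _ p' q' h' (by omega) w
      obtain ⟨u₂, hu₂⟩ := ih (x - d (K := K) n₀ n₁ h₀ u₁) (fun p q h => by
          rw [map_sub, ← ConcreteCategory.comp_apply (d (K := K) n₀ n₁ h₀), TotCx.d_comp_d,
            map_sub, hdx, zero_sub, neg_eq_zero]
          exact map_zero _)
        (fun p' q' h' hp' => by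
          rw [map_sub]
          rcases Nat.lt_or_ge (m + 1) p' with hlt | hge
          · rw [hm p' q' h' hlt, d_apply_eq_zero_of_high h₀ hu hlt h', sub_zero]
          · obtain rfl : p' = m + 1 := by omega
            obtain rfl : q' = q := by omega
            rw [d_apply_of_next_zero h₀ u₁ m q h' (fun q'' h'' => hu _ q'' h'' (by omega)), hu₁,
              ι_π_apply, hw, sub_self])
      exact ⟨u₁ + u₂, fun p q h hp => by
        rw [map_add, ← sub_sub]; exact hu₂ p q h hp⟩
    · exact ih x hdx fun p q h hp => by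
        rcases Nat.lt_or_ge (m + 1) p with hlt | hge
        · exact hm p q h hlt
        · exact absurd h (by omega)

include hex in
theorem exists_reduce {n₀ n₁ n₂ : ℤ} (h₀ : n₀ + 1 = n₁) (h₁ : n₁ + 1 = n₂) (x : T K n₁)
    (hdx : ∀ p q h, π K n₂ (p + 1) q h (d (K := K) n₁ n₂ h₁ x) = 0) :
    ∃ u : T K n₀, ∀ p q h, 0 < p → π K n₁ p q h (x - d (K := K) n₀ n₁ h₀ u) = 0 :=
  reduce hex h₀ h₁ (m := n₁.toNat) x hdx fun p q h hp => absurd h (by omega)

theorem isZero_X_of_neg {n : ℤ} (hn : n < 0) : IsZero (T K n) := by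
  refine AddCommGrpCat.isZero_of_subsingleton' (T K n) ?_
  exact ⟨fun a b => ext_apply fun p q h => absurd h (by omega)⟩
where
  AddCommGrpCat.isZero_of_subsingleton' (G : AddCommGrpCat.{u}) (_ : Subsingleton G) : IsZero G :=
    AddCommGrpCat.isZero_of_subsingleton G

theorem isZero_homology_of_neg {n : ℤ} (hn : n < 0) : IsZero ((tot K).homology n) := by
  rw [← HomologicalComplex.exactAt_iff_isZero_homology, HomologicalComplex.exactAt_iff]
  exact ShortComplex.exact_of_isZero_X₂ _ (isZero_X_of_neg hn)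

variable (A : CochainComplex AddCommGrpCat.{u} ℕ) (a : A ⟶ K.X 0)
  (ha : ∀ q y, (K.d 0 1).f q (a.f q y) = 0)
  (hinj : ∀ q, Function.Injective (a.f q))
  (hex₀ : ∀ (q : ℕ) (z : (K.X 0).X q), (K.d 0 1).f q z = 0 → ∃ y, a.f q y = z)

include ha hinj hex₀ hex in
theorem nonempty_homology_iso (k : ℕ) : Nonempty ((tot K).homology (k : ℤ) ≅ A.homology k) := by
  have h0 : ∀ j : ℕ, ((0 : ℕ) : ℤ) + (j : ℤ) = (j : ℤ) := fun j => by omega
  have hd : ∀ (y : A.cycles k),
      (tot K).d (k : ℤ) ((k : ℤ) + 1) (ι K k 0 k (h0 k) (a.f k (A.iCycles k y))) = 0 := by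
    intro y
    have hy : A.d k (k + 1) (A.iCycles k y) = 0 := by
      rw [← ConcreteCategory.comp_apply, HomologicalComplex.iCycles_d]; rfl
    have hv : (K.X 0).d k (k + 1) (a.f k (A.iCycles k y)) = 0 := by
      rw [← ConcreteCategory.comp_apply, a.comm k (k + 1), ConcreteCategory.comp_apply, hy, map_zero]
    rw [tot_d_eq (k : ℤ) ((k : ℤ) + 1) rfl]
    refine ext_apply fun p q hpq => ?_
    rw [map_zero]
    rcases p with _ | p
    · obtain rfl : q = k + 1 := by omega
      rw [d_apply_zero_succ, ι_π_apply, hv]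
    · rw [d_apply_of_next_zero _ _ p q hpq
        (fun q' h' => ι_π_ne_apply 0 k _ _ q' h' (by omega) _)]
      rcases p with _ | p
      · obtain rfl : q = k := by omega
        rw [ι_π_apply, ha]
      · rw [ι_π_ne_apply 0 k _ _ q _ (by omega), map_zero]
  let f₀ : A.cycles k ⟶ (tot K).X (k : ℤ) := A.iCycles k ≫ a.f k ≫ ι K k 0 k (h0 k)
  have hf₀ : f₀ ≫ (tot K).d (k : ℤ) ((k : ℤ) + 1) = 0 := by
    refine ConcreteCategory.hom_ext _ _ fun y => ?_
    exact hd y
  let f := (tot K).liftCycles f₀ ((k : ℤ) + 1) (CochainComplex.next ℤ _) hf₀ ≫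
    (tot K).homologyπ (k : ℤ)
  have hlift : ∀ y, (tot K).iCycles (k : ℤ)
      ((tot K).liftCycles f₀ ((k : ℤ) + 1) (CochainComplex.next ℤ _) hf₀ y) =
        ι K k 0 k (h0 k) (a.f k (A.iCycles k y)) := fun y => by
    rw [← ConcreteCategory.comp_apply, HomologicalComplex.liftCycles_i]; rfl
  have : Epi f := by
    rw [AddCommGrpCat.epi_iff_surjective]
    intro γ
    obtain ⟨z, rfl⟩ := homologyπ_surjective (tot K) (k : ℤ) γ
    set x := (tot K).iCycles (k : ℤ) z with hx
    have hxd : d (K := K) (k : ℤ) ((k : ℤ) + 1) rfl x = 0 := by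
      rw [← tot_d_eq, hx, ← ConcreteCategory.comp_apply, HomologicalComplex.iCycles_d]; rfl
    obtain ⟨u, hu⟩ := exists_reduce hex (show ((k : ℤ) - 1) + 1 = k by omega) rfl x
      (fun p q h => by rw [hxd, map_zero])
    set x' := x - d (K := K) ((k : ℤ) - 1) k (by omega) u with hx'
    have hx'd : d (K := K) (k : ℤ) ((k : ℤ) + 1) rfl x' = 0 := by
      rw [hx', map_sub, hxd, ← ConcreteCategory.comp_apply, TotCx.d_comp_d, zero_sub, neg_eq_zero]
      rfl
    have hz₀ : (K.d 0 1).f k (π K k 0 k (h0 k) x') = 0 := by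
      rw [← d_apply_of_next_zero rfl x' 0 k (by omega) (fun q' h' => hu _ q' h' (by omega)), hx'd,
        map_zero]
    obtain ⟨y, hy⟩ := hex₀ k _ hz₀
    have hyd : A.d k (k + 1) y = 0 := hinj (k + 1) (by
      rw [map_zero, ← ConcreteCategory.comp_apply, ← a.comm k (k + 1), ConcreteCategory.comp_apply,
        hy, ← d_apply_zero_succ (n' := (k : ℤ) + 1) rfl x' k (by omega), hx'd, map_zero])
    obtain ⟨y', hy'⟩ := exists_cycles A (CochainComplex.next ℕ k) y hyd
    refine ⟨y', ?_⟩
    rw [← sub_eq_zero, ConcreteCategory.comp_apply, ← map_sub,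
      homologyπ_eq_zero_iff (tot K) (CochainComplex.prev ℤ (k : ℤ))]
    refine ⟨-u, ?_⟩
    rw [map_sub, hlift, hy', hy, map_neg, tot_d_eq ((k : ℤ) - 1) k (by omega), ← hx]
    have : ι K k 0 k (h0 k) (π K k 0 k (h0 k) x') = x' := ext_apply fun p q h => by
      rcases p with _ | p
      · obtain rfl : q = k := by omega
        rw [ι_π_apply]
      · rw [ι_π_ne_apply 0 k _ _ q _ (by omega), hu _ q _ (by omega)]
    rw [this, hx']
    abel
  have hker : ∀ y : A.cycles k, A.homologyπ k y = 0 ↔ f y = 0 := by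
    intro y
    rw [ConcreteCategory.comp_apply, homologyπ_eq_zero_iff (tot K) (CochainComplex.prev ℤ (k : ℤ)),
      hlift, homologyπ_eq_zero_iff A rfl]
    constructor
    · rintro ⟨b, hb⟩
      rcases k with _ | k
      · rw [A.shape _ _ (by simp)] at hb
        exact ⟨0, by rw [map_zero, ← hb]; simp⟩
      · have hp : (ComplexShape.up ℕ).prev (k + 1) = k := CochainComplex.prev_nat_succ k
        revert b
        rw [hp]
        intro b hb
        refine ⟨ι K ((k + 1 : ℕ) - 1 : ℤ) 0 k (by omega) (a.f k b), ?_⟩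
        rw [tot_d_eq _ _ (by omega)]
        refine ext_apply fun p q hpq => ?_
        rcases p with _ | p
        · obtain rfl : q = k + 1 := by omega
          rw [d_apply_zero_succ, ι_π_apply, ι_π_apply, ← ConcreteCategory.comp_apply,
            a.comm k (k + 1), ConcreteCategory.comp_apply, hb]
        · rw [ι_π_ne_apply 0 (k + 1) _ _ q _ (by omega), d_apply_of_next_zero _ _ p q hpq
            (fun q' h' => ι_π_ne_apply 0 k _ _ q' h' (by omega) _)]
          rcases p with _ | p
          · obtain rfl : q = k := by omega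
            rw [ι_π_apply, ha]
          · rw [ι_π_ne_apply 0 k _ _ q _ (by omega), map_zero]
    · rintro ⟨w, hw⟩
      rw [tot_d_eq _ _ (by omega : ((k : ℤ) - 1) + 1 = k)] at hw
      rcases k with _ | k
      · refine ⟨0, ?_⟩
        rw [map_zero]
        refine hinj 0 ?_
        rw [map_zero, ← ι_π_apply (n := ((0 : ℕ) : ℤ)) 0 0 (by omega) (a.f 0 (A.iCycles 0 y)), ← hw,
          d_apply_zero_zero]
      · obtain ⟨u, hu⟩ := exists_reduce hex
          (show (((k + 1 : ℕ) : ℤ) - 1 - 1) + 1 = ((k + 1 : ℕ) : ℤ) - 1 by omega)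
          (show (((k + 1 : ℕ) : ℤ) - 1) + 1 = ((k + 1 : ℕ) : ℤ) by omega) w
          (fun p q h => by rw [hw, ι_π_ne_apply 0 (k + 1) _ _ q _ (by omega)])
        set w' := w - d (K := K) _ _ (by omega) u with hw'
        have hw'd : d (K := K) _ _ (by omega) w' = ι K ((k + 1 : ℕ) : ℤ) 0 (k + 1) (by omega)
            (a.f (k + 1) (A.iCycles (k + 1) y)) := by
          rw [hw', map_sub, hw]
          refine sub_eq_self.2 ?_
          rw [← ConcreteCategory.comp_apply, TotCx.d_comp_d]
          rfl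
        have hz₀ : (K.d 0 1).f k (π K (((k + 1 : ℕ) : ℤ) - 1) 0 k (by omega) w') = 0 := by
          rw [← d_apply_of_next_zero (n' := ((k + 1 : ℕ) : ℤ)) (by omega) w' 0 k (by omega)
            (fun q' h' => hu _ q' h' (by omega)), hw'd, ι_π_ne_apply 0 (k + 1) _ _ k _ (by omega)]
        obtain ⟨b, hb⟩ := hex₀ k _ hz₀
        rw [CochainComplex.prev_nat_succ]
        refine ⟨b, hinj (k + 1) ?_⟩
        rw [← ConcreteCategory.comp_apply, ← a.comm k (k + 1), ConcreteCategory.comp_apply, hb,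
          ← d_apply_zero_succ (n' := ((k + 1 : ℕ) : ℤ)) (by omega) w' k (by omega), hw'd, ι_π_apply]
  obtain ⟨e⟩ := nonempty_iso_of_same_kernel f (A.homologyπ k) fun {W} g => by
    constructor <;> intro h <;> ext t
    · exact (hker (g t)).2 (ConcreteCategory.congr_hom h t)
    · exact (hker (g t)).1 (ConcreteCategory.congr_hom h t)
  exact ⟨e⟩

end Groth.Agent.CohTop.Descent.TotExact
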