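import Groth.Agent.CohTop.Descent.TotExact
import Mathlib.CategoryTheory.Limits.Preserves.Shapes.Products
import Mathlib.CategoryTheory.Preadditive.AdditiveFunctor

/-!
# Functoriality of total complexes

`totMap`, `mapTotIso`, and the total map of a column-wise quasi-isomorphism (`cone_exact`).
-/

namespace Groth.Agent.CohTop.Descent.TotMap

open CategoryTheory CategoryTheory.Limits TotCx

universe v u v' u'

variable {C : Type u} [Category.{v} C] [Abelian C]

section Map

variable {K K' : CochainComplex (CochainComplex C ℕ) ℕ} (φ : K ⟶ K')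

/-- The map on terms. -/
noncomputable def mapX (n : ℤ) : X K n ⟶ X K' n :=
  Pi.lift fun i => π K n i.1.1 i.1.2 i.2 ≫ (φ.f i.1.1).f i.1.2

theorem mapX_π (n : ℤ) (p q : ℕ) (h : (p : ℤ) + q = n) :
    mapX φ n ≫ π K' n p q h = π K n p q h ≫ (φ.f p).f q :=
  Pi.lift_π _ _

theorem mapX_d {n n' : ℤ} (hn : n + 1 = n') :
    mapX φ n ≫ d n n' hn = d n n' hn ≫ mapX φ n' := by
  refine hom_ext K' fun p q h => ?_
  rw [Category.assoc, Category.assoc, mapX_π]
  have hh : ∀ (p q : ℕ), (φ.f p).f q ≫ (K'.d p (p + 1)).f q = (K.d p (p + 1)).f q ≫ (φ.f (p + 1)).f q :=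
    fun p q => by rw [← HomologicalComplex.comp_f, φ.comm p (p + 1), HomologicalComplex.comp_f]
  rcases p with _ | p <;> rcases q with _ | q
  · rw [d_π_zero_zero, reassoc_of% d_π_zero_zero hn h, zero_comp, comp_zero]
  · rw [d_π_zero_succ, reassoc_of% d_π_zero_succ hn q h, reassoc_of% mapX_π,
      (φ.f 0).comm q (q + 1)]
  · rw [d_π_succ_zero, reassoc_of% d_π_succ_zero hn p h, reassoc_of% mapX_π, hh]
  · rw [d_π_succ_succ, reassoc_of% d_π_succ_succ hn p q h, Preadditive.comp_add,
      Preadditive.comp_zsmul, reassoc_of% mapX_π, reassoc_of% mapX_π, hh,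
      (φ.f (p + 1)).comm q (q + 1)]
    simp [Preadditive.add_comp]

/-- The map of total complexes. -/
noncomputable def totMap : tot K ⟶ tot K' where
  f n := mapX φ n
  comm' i j h := by
    obtain rfl : i + 1 = j := h
    rw [tot_d_eq _ _ rfl, tot_d_eq _ _ rfl]
    exact mapX_d φ rfl

theorem low_mapX {n k : ℤ} {W : C} {x : W ⟶ X K n} (hx : Low k x) : Low k (x ≫ mapX φ n) :=
  fun p q h hp => by rw [Category.assoc, mapX_π, ← Category.assoc, hx p q h hp, zero_comp]

end Map

section Functor

variable {D : Type u'} [Category.{v'} D] [Abelian D] (G : C ⥤ D) [G.Additive]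
  [PreservesFiniteProducts G] (K : CochainComplex (CochainComplex C ℕ) ℕ)

/-- An additive functor on a double complex. -/
noncomputable abbrev map₂ : CochainComplex (CochainComplex D ℕ) ℕ :=
  ((G.mapHomologicalComplex (ComplexShape.up ℕ)).mapHomologicalComplex (ComplexShape.up ℕ)).obj K

/-- The comparison of the terms. -/
noncomputable def mapXIso (n : ℤ) : G.obj (X K n) ≅ X (map₂ G K) n :=
  PreservesProduct.iso G fun i : Idx n => (K.X i.1.1).X i.1.2

theorem mapXIso_π (n : ℤ) (p q : ℕ) (h : (p : ℤ) + q = n) :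
    (mapXIso G K n).hom ≫ π (map₂ G K) n p q h = G.map (π K n p q h) := by
  rw [mapXIso, PreservesProduct.iso_hom, π, π]
  exact piComparison_comp_π G (fun i : Idx n => (K.X i.1.1).X i.1.2) ⟨(p, q), h⟩

theorem mapXIso_d {n n' : ℤ} (hn : n + 1 = n') :
    (mapXIso G K n).hom ≫ d (K := map₂ G K) n n' hn = G.map (d n n' hn) ≫ (mapXIso G K n').hom := by
  refine hom_ext (map₂ G K) fun p q h => ?_
  rw [Category.assoc, Category.assoc, mapXIso_π]
  refine Eq.trans ?_ (G.map_comp _ _)
  rcases p with _ | p <;> rcases q with _ | q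
  · rw [d_π_zero_zero, d_π_zero_zero, G.map_zero, comp_zero]
    rfl
  · rw [d_π_zero_succ, d_π_zero_succ, G.map_comp, reassoc_of% mapXIso_π]
    rfl
  · rw [d_π_succ_zero, d_π_succ_zero, G.map_comp, reassoc_of% mapXIso_π]
    rfl
  · rw [d_π_succ_succ, d_π_succ_succ, G.map_add, G.map_zsmul, G.map_comp, G.map_comp,
      Preadditive.comp_add, Preadditive.comp_zsmul, reassoc_of% mapXIso_π,
      reassoc_of% mapXIso_π]
    rfl

/-- An additive functor commutes with total complexes. -/
noncomputable def mapTotIso :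
    (G.mapHomologicalComplex (ComplexShape.up ℤ)).obj (tot K) ≅ tot (map₂ G K) :=
  HomologicalComplex.Hom.isoOfComponents (fun n => mapXIso G K n) (by
    intro i j h
    obtain rfl : i + 1 = j := h
    rw [tot_d_eq _ _ rfl, Functor.mapHomologicalComplex_obj_d, tot_d_eq _ _ rfl]
    exact mapXIso_d G K rfl)

end Functor

section Cone

universe w

variable {K K' : CochainComplex (CochainComplex AddCommGrpCat.{w} ℕ) ℕ} (φ : K ⟶ K')

/-- The cone of each column is acyclic. -/
def ColExact : Prop :=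
  (∀ p (x : (K.X p).X 0), (K.X p).d 0 1 x = 0 → (φ.f p).f 0 x = 0 → x = 0) ∧
  ∀ p q (x : (K.X p).X (q + 1)) (y : (K'.X p).X q), (K.X p).d (q + 1) (q + 1 + 1) x = 0 →
    (K'.X p).d q (q + 1) y = (φ.f p).f (q + 1) x →
    ∃ (a : (K.X p).X q) (b : (K'.X p).X ((ComplexShape.up ℕ).prev q)),
      (K.X p).d q (q + 1) a = x ∧ (φ.f p).f q a - y = (K'.X p).d _ q b

variable {n : ℤ}

theorem mapX_apply (p q : ℕ) (h : (p : ℤ) + q = n) (x : TotExact.T K n) :
    π K' n p q h (mapX φ n x) = (φ.f p).f q (π K n p q h x) := by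
  rw [← ConcreteCategory.comp_apply, mapX_π]; rfl

theorem mapX_ι (p q : ℕ) (h : (p : ℤ) + q = n) (a : (K.X p).X q) :
    mapX φ n (ι K n p q h a) = ι K' n p q h ((φ.f p).f q a) := by
  refine TotExact.ext_apply fun p' q' h' => ?_
  rw [mapX_apply]
  rcases eq_or_ne p' p with rfl | hne
  · obtain rfl : q' = q := by omega
    rw [TotExact.ι_π_apply, TotExact.ι_π_apply]
  · rw [TotExact.ι_π_ne_apply _ _ _ _ _ _ hne, TotExact.ι_π_ne_apply _ _ _ _ _ _ hne, map_zero]

/-- The vertical component of `d` at the lowest column. -/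
theorem d_low_apply {n' : ℤ} (hn : n + 1 = n') {m : ℕ} (x : TotExact.T K n)
    (hx : ∀ p q h, p < m → π K n p q h x = 0) (q : ℕ) (h : (m : ℤ) + (q + 1 : ℕ) = n') :
    π K n' m (q + 1) h (d (K := K) n n' hn x) =
      ((-1 : ℤ) ^ m) • (K.X m).d q (q + 1) (π K n m q (by omega) x) := by
  rcases m with _ | m
  · rw [TotExact.d_apply_zero_succ, pow_zero, one_smul]
  · rw [TotExact.d_apply_succ_succ, hx m (q + 1) _ (by omega), map_zero, zero_add]

theorem d_ι_low {n' : ℤ} (hn : n + 1 = n') (m q : ℕ) (h : (m : ℤ) + q = n) (a : (K.X m).X q)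
    (p' q' : ℕ) (h' : (p' : ℤ) + q' = n') (hp : p' < m) :
    π K n' p' q' h' (d (K := K) n n' hn (ι K n m q h a)) = 0 := by
  rcases p' with _ | p <;> rcases q' with _ | q''
  · exact TotExact.d_apply_zero_zero hn _ h'
  · rw [TotExact.d_apply_zero_succ, TotExact.ι_π_ne_apply _ _ _ _ _ _ (by omega), map_zero]
  · rw [TotExact.d_apply_succ_zero, TotExact.ι_π_ne_apply _ _ _ _ _ _ (by omega), map_zero]
  · rw [TotExact.d_apply_succ_succ, TotExact.ι_π_ne_apply _ _ _ _ _ _ (by omega),
      TotExact.ι_π_ne_apply _ _ _ _ _ _ (by omega), map_zero, map_zero, smul_zero, add_zero]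

/-- A column-wise quasi-isomorphism has an acyclic total cone. -/
theorem cone_exact (hφ : ColExact φ) {n₀ n₁ n₂ n₃ : ℤ} (h₀ : n₀ + 1 = n₁) (h₁ : n₁ + 1 = n₂)
    (h₂ : n₂ + 1 = n₃) (x : TotExact.T K n₂) (y : TotExact.T K' n₁)
    (hx : d (K := K) n₂ n₃ h₂ x = 0) (hy : d (K := K') n₁ n₂ h₁ y = mapX φ n₂ x) :
    ∃ (a : TotExact.T K n₁) (b : TotExact.T K' n₀),
      d (K := K) n₁ n₂ h₁ a = x ∧ mapX φ n₁ a - y = d (K := K') n₀ n₁ h₀ b := by
  suffices key : ∀ (j m : ℕ) (x : TotExact.T K n₂) (y : TotExact.T K' n₁),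
      (∀ p q h, p < m → π K n₂ p q h x = 0) → (∀ p q h, p < m → π K' n₁ p q h y = 0) →
      d (K := K) n₂ n₃ h₂ x = 0 → d (K := K') n₁ n₂ h₁ y = mapX φ n₂ x → n₂ < (m : ℤ) + j →
      ∃ (a : TotExact.T K n₁) (b : TotExact.T K' n₀),
        d (K := K) n₁ n₂ h₁ a = x ∧ mapX φ n₁ a - y = d (K := K') n₀ n₁ h₀ b from
    key (n₂.toNat + 1) 0 x y (fun _ _ _ h => absurd h (Nat.not_lt_zero _))
      (fun _ _ _ h => absurd h (Nat.not_lt_zero _)) hx hy (by omega)
  intro j
  induction j with
  | zero =>
    intro m x y hxl hyl _ _ hm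
    refine ⟨0, 0, ?_, ?_⟩
    · rw [map_zero]; exact TotExact.ext_apply fun p q h => by rw [map_zero, hxl p q h (by omega)]
    · rw [map_zero, map_zero, zero_sub, neg_eq_zero]
      exact TotExact.ext_apply fun p q h => by rw [map_zero, hyl p q h (by omega)]
  | succ j ih =>
    intro m x y hxl hyl hx hy hm
    set ε : ℤ := (-1) ^ m with hε
    have hεε : ε * ε = 1 := by rw [hε, ← pow_add]; exact Even.neg_one_pow ⟨m, rfl⟩
    by_cases hq : (m : ℤ) ≤ n₁
    · obtain ⟨q, hq⟩ : ∃ q : ℕ, (m : ℤ) + q = n₁ := ⟨(n₁ - m).toNat, by omega⟩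
      set xm := π K n₂ m (q + 1) (by omega) x with hxm
      set ym := π K' n₁ m q hq y with hym
      have hxv : (K.X m).d (q + 1) (q + 1 + 1) xm = 0 := by
        have := congrArg (π K n₃ m (q + 1 + 1) (by omega)) hx
        rw [d_low_apply h₂ x hxl (q + 1), map_zero] at this
        have := congrArg (ε • ·) this
        simpa [smul_smul, hεε, ← hε] using this
      have hyv : (K'.X m).d q (q + 1) ym = (φ.f m).f (q + 1) (ε • xm) := by
        have := congrArg (π K' n₂ m (q + 1) (by omega)) hy
        rw [d_low_apply h₁ y hyl q, mapX_apply] at this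
        rw [map_zsmul, ← this, smul_smul, hεε, one_smul]
      obtain ⟨a, b, ha, hb⟩ := hφ.2 m q (ε • xm) ym (by rw [map_zsmul, hxv, smul_zero]) hyv
      obtain ⟨B, hB₀, hBlow⟩ : ∃ B : TotExact.T K' n₀,
          π K' n₁ m q hq (d (K := K') n₀ n₁ h₀ B) = (K'.X m).d ((ComplexShape.up ℕ).prev q) q b ∧
          ∀ p' q' h', p' < m → π K' n₁ p' q' h' (d (K := K') n₀ n₁ h₀ B) = 0 := by
        rcases q with _ | q
        · refine ⟨0, ?_, fun p' q' h' _ => by rw [map_zero, map_zero]⟩
          rw [map_zero, map_zero, (K'.X m).shape _ _ (by simp)]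
          rfl
        · have hp : (ComplexShape.up ℕ).prev (q + 1) = q := CochainComplex.prev_nat_succ q
          revert b
          rw [hp]
          intro b _
          refine ⟨ι K' n₀ m q (by omega) (ε • b), ?_, fun p' q' h' hp' => d_ι_low h₀ m q _ _ p' q' h' hp'⟩
          rw [d_low_apply h₀ _ (fun p q' h hp => TotExact.ι_π_ne_apply _ _ _ _ _ _ (by omega) _) q,
            TotExact.ι_π_apply, map_zsmul, smul_smul, hεε, one_smul]
      set A : TotExact.T K n₁ := ι K n₁ m q hq a with hA
      obtain ⟨a', b', ha', hb'⟩ := ih (m + 1) (x - d (K := K) n₁ n₂ h₁ A) (y - mapX φ n₁ A + d (K := K') n₀ n₁ h₀ B)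
        (fun p q' h hp => by
          rw [map_sub]
          rcases lt_or_eq_of_le (show p ≤ m by omega) with hlt | rfl
          · rw [hxl p q' h hlt, d_ι_low h₁ m q hq a p q' h hlt, sub_zero]
          · obtain rfl : q' = q + 1 := by omega
            rw [d_low_apply h₁ A (fun p q' h hp => TotExact.ι_π_ne_apply _ _ _ _ _ _ (by omega) _) q,
              hA, TotExact.ι_π_apply, ha, smul_smul, hεε, one_smul, sub_self])
        (fun p q' h hp => by
          rw [map_add, map_sub, hA, mapX_ι]
          rcases lt_or_eq_of_le (show p ≤ m by omega) with hlt | rfl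
          · rw [hyl p q' h hlt, hBlow p q' h hlt, TotExact.ι_π_ne_apply _ _ _ _ _ _ (by omega),
              sub_zero, add_zero]
          · obtain rfl : q' = q := by omega
            rw [TotExact.ι_π_apply, hB₀, ← hb]
            abel)
        (by rw [map_sub, hx, ← ConcreteCategory.comp_apply, d_comp_d]; exact sub_zero _)
        (by
          rw [map_add, map_sub, hy]
          erw [map_sub]
          rw [
            ← ConcreteCategory.comp_apply (d (K := K') n₀ n₁ h₀), d_comp_d,
            ← ConcreteCategory.comp_apply (mapX φ n₁), mapX_d φ h₁, ConcreteCategory.comp_apply]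
          exact add_zero _)
        (by omega)
      refine ⟨a' + A, b' + B, by rw [map_add, ha', sub_add_cancel], ?_⟩
      rw [map_add, map_add, ← hb']
      abel
    · refine ih (m + 1) x y (fun p q h hp => ?_) (fun p q h hp => ?_) hx hy (by omega)
      · rcases lt_or_eq_of_le (show p ≤ m by omega) with hlt | rfl
        · exact hxl p q h hlt
        · obtain rfl : q = 0 := by omega
          refine hφ.1 p _ ?_ ?_
          · have := congrArg (π K n₃ p 1 (by omega)) hx
            rw [d_low_apply h₂ x hxl 0, map_zero] at this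
            have := congrArg (ε • ·) this
            simpa [smul_smul, hεε, ← hε] using this
          · rw [← mapX_apply, ← hy]
            rcases p with _ | p
            · exact TotExact.d_apply_zero_zero h₁ y _
            · rw [TotExact.d_apply_succ_zero, hyl p 0 _ (by omega), map_zero]
      · rcases lt_or_eq_of_le (show p ≤ m by omega) with hlt | rfl
        · exact hyl p q h hlt
        · exact absurd h (by omega)

end Cone

end Groth.Agent.CohTop.Descent.TotMap
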